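import Mathlib
set_option linter.all false

/-!
# Lifting a normal 2-subgroup through a surjection with kernel of odd order (helper244, for S3191)
-/

set_option autoImplicit false

namespace Cfsg.Agent.H244.Kondo

open Subgroup

variable {C Q N : Type*} [Group C] [Group Q] [Group N]

/-- a 2-group meets a subgroup of odd order trivially -/
theorem eq_one_of_odd {π : C →* Q} (hker : Odd (Nat.card π.ker)) {P : Subgroup C} (hP : IsPGroup 2 P) {x : C}
    (hx : x ∈ P) (h1 : π x = 1) : x = 1 := by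
  obtain ⟨k, hk⟩ := hP ⟨x, hx⟩
  have h2 : orderOf x ∣ 2 ^ k := orderOf_dvd_of_pow_eq_one (congrArg Subtype.val hk)
  have h3 : orderOf x ∣ Nat.card π.ker := by
    have := orderOf_dvd_natCard (⟨x, h1⟩ : π.ker)
    rwa [← Subgroup.orderOf_coe] at this
  have h4 : Nat.Coprime (2 ^ k) (Nat.card π.ker) := (Nat.coprime_two_left.2 hker).pow_left k
  exact orderOf_eq_one_iff.1 (Nat.eq_one_of_dvd_coprimes h4 h2 h3)

/-- a Sylow 2-subgroup in a subgroup of odd index -/
theorem exists_sylow_le [Finite Q] {M : Subgroup Q} (hM : Odd M.index) : ∃ T : Sylow 2 Q, (T : Subgroup Q) ≤ M := by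
  have : Fact (Nat.Prime 2) := ⟨Nat.prime_two⟩
  obtain ⟨T0⟩ : Nonempty (Sylow 2 M) := inferInstance
  have h1 : IsPGroup 2 ((T0 : Subgroup M).map M.subtype) := T0.2.map _
  refine ⟨h1.toSylow ?_, ?_⟩
  · rw [index_map_subtype]
    refine Nat.Prime.not_dvd_mul Nat.prime_two T0.not_dvd_index ?_
    exact fun h => (Nat.not_even_iff_odd.2 hM) (even_iff_two_dvd.2 h)
  · rw [IsPGroup.toSylow_coe]
    exact map_subtype_le _

variable {π : C →* Q} {J : N →* Q} {M : Subgroup Q}

/-- the lift -/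
theorem exists_lift [Finite C] (hπ : Function.Surjective π) (hker : Odd (Nat.card π.ker)) (hJ : Function.Injective J)
    (hN : IsPGroup 2 N) (hM : Odd M.index) (hnorm : ∀ x ∈ M, ∀ y ∈ J.range, x * y * x⁻¹ ∈ J.range) :
    ∃ (P : Sylow 2 C) (j : N →* C), (∀ f, π (j f) = J f) ∧ (∀ f, j f ∈ (P : Subgroup C)) ∧
      (∀ x ∈ (P : Subgroup C), π x ∈ M) := by
  have : Fact (Nat.Prime 2) := ⟨Nat.prime_two⟩
  have hQ : Finite Q := Finite.of_surjective _ hπ
  obtain ⟨T, hT⟩ := exists_sylow_le hM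
  obtain ⟨P0⟩ : Nonempty (Sylow 2 C) := inferInstance
  obtain ⟨q, hq⟩ := MulAction.exists_smul_eq Q (P0.mapSurjective hπ) T
  obtain ⟨c, rfl⟩ := hπ q
  set P : Sylow 2 C := c • P0 with hPdef
  have hPT : (P : Subgroup C).map π = (T : Subgroup Q) := by
    rw [← hq]
    ext y
    constructor
    · rintro ⟨x, hx, rfl⟩
      rw [hPdef] at hx
      obtain ⟨w, hw, rfl⟩ := hx
      exact ⟨π w, ⟨w, hw, rfl⟩, by simp⟩
    · rintro ⟨_, ⟨w, hw, rfl⟩, rfl⟩
      exact ⟨c * w * c⁻¹, ⟨w, hw, rfl⟩, by simp⟩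
  have hJT : J.range ≤ (T : Subgroup Q) := by
    have h1 : IsPGroup 2 J.range := hN.of_equiv (MonoidHom.ofInjective hJ)
    have h2 : (T : Subgroup Q) ≤ normalizer (J.range : Set Q) := by
      intro x hx
      rw [mem_normalizer_iff]
      intro y
      constructor
      · intro hy
        exact hnorm x (hT hx) y hy
      · intro hy
        have := hnorm x⁻¹ (M.inv_mem (hT hx)) _ hy
        have h3 : x⁻¹ * (x * y * x⁻¹) * x⁻¹⁻¹ = y := by group
        rwa [h3] at this
    have h3 := T.is_maximal' (T.2.to_sup_of_normal_right' h1 h2) le_sup_left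
    rw [← h3]
    exact le_sup_right
  have hinj : Function.Injective (π.comp (P : Subgroup C).subtype) := by
    rw [injective_iff_map_eq_one]
    intro x hx
    exact Subtype.ext (eq_one_of_odd hker P.2 x.2 hx)
  have hrange : ∀ f, J f ∈ (π.comp (P : Subgroup C).subtype).range := by
    intro f
    have h1 := hJT ⟨f, rfl⟩
    rw [← hPT] at h1
    obtain ⟨x, hx, hx'⟩ := h1
    exact ⟨⟨x, hx⟩, hx'⟩
  let j : N →* C := (P : Subgroup C).subtype.comp
    ((MonoidHom.ofInjective hinj).symm.toMonoidHom.comp (J.codRestrict _ hrange))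
  refine ⟨P, j, ?_, ?_, ?_⟩
  · intro f
    have h1 := (MonoidHom.ofInjective hinj).apply_symm_apply ⟨J f, hrange f⟩
    exact congrArg Subtype.val h1
  · intro f
    exact ((MonoidHom.ofInjective hinj).symm ⟨J f, hrange f⟩).2
  · intro x hx
    apply hT
    rw [← hPT]
    exact ⟨x, hx, rfl⟩

/-- 2-subgroups with image in `J.range` are conjugate under the kernel to subgroups of `j.range` -/
theorem exists_kernel_conj [Finite C] [Finite N] (hker : Odd (Nat.card π.ker)) (hJ : Function.Injective J)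
    (hN : IsPGroup 2 N) {j : N →* C} (hj : ∀ f, π (j f) = J f) {R : Subgroup C} (hR : IsPGroup 2 R)
    (hRJ : ∀ x ∈ R, π x ∈ J.range) : ∃ k, π k = 1 ∧ ∀ x ∈ R, k * x * k⁻¹ ∈ j.range := by
  have : Fact (Nat.Prime 2) := ⟨Nat.prime_two⟩
  set L : Subgroup C := J.range.comap π with hL
  have hjL : j.range ≤ L := by
    rintro _ ⟨f, rfl⟩
    exact ⟨f, (hj f).symm⟩
  have hRL : R ≤ L := fun x hx => hRJ x hx
  have hji : Function.Injective j := by
    intro f g h
    apply hJ
    rw [← hj, ← hj, h]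
  have hcard : Nat.card L = Nat.card N * Nat.card π.ker := by
    rw [← Nat.card_prod]
    symm
    refine Nat.card_congr (Equiv.ofBijective (fun t => ⟨j t.1 * t.2, ?_⟩) ⟨?_, ?_⟩)
    · rw [hL, mem_comap, map_mul, hj, MonoidHom.mem_ker.1 t.2.2, mul_one]
      exact ⟨_, rfl⟩
    · rintro ⟨f, k⟩ ⟨g, l⟩ h
      have h1 : j f * k = j g * l := congrArg Subtype.val h
      have h2 := congrArg π h1
      rw [map_mul, map_mul, hj, hj, MonoidHom.mem_ker.1 k.2, MonoidHom.mem_ker.1 l.2, mul_one, mul_one] at h2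
      have h3 := hJ h2
      subst h3
      exact Prod.ext rfl (Subtype.ext (mul_left_cancel h1))
    · rintro ⟨x, hx⟩
      obtain ⟨f, hf⟩ := hx
      refine ⟨(f, ⟨(j f)⁻¹ * x, ?_⟩), ?_⟩
      · rw [MonoidHom.mem_ker, map_mul, map_inv, hj, ← hf, inv_mul_cancel]
      · apply Subtype.ext
        change j f * ((j f)⁻¹ * x) = x
        group
  have hidx : (j.range.subgroupOf L).index = Nat.card π.ker := by
    have h1 := (j.range.subgroupOf L).card_mul_index
    rw [hcard, Nat.card_congr (subgroupOfEquivOfLe hjL).toEquiv,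
      ← Nat.card_congr (MonoidHom.ofInjective hji).toEquiv] at h1
    exact Nat.eq_of_mul_eq_mul_left Nat.card_pos h1
  have hjp : IsPGroup 2 (j.range.subgroupOf L) :=
    (hN.of_equiv (MonoidHom.ofInjective hji)).of_equiv (subgroupOfEquivOfLe hjL).symm
  obtain ⟨S, hS⟩ := (hR.of_equiv (subgroupOfEquivOfLe hRL).symm).exists_le_sylow
  obtain ⟨l, hl⟩ := MulAction.exists_smul_eq L S (hjp.toSylow (by
    rw [hidx]; exact fun h => (Nat.not_even_iff_odd.2 hker) (even_iff_two_dvd.2 h)))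
  obtain ⟨f0, hf0⟩ := (show π l ∈ J.range from l.2)
  refine ⟨(j f0)⁻¹ * l, by rw [map_mul, map_inv, hj, hf0, inv_mul_cancel], ?_⟩
  intro x hx
  have h1 : (⟨x, hRL hx⟩ : L) ∈ (S : Subgroup L) := hS hx
  have h2 : l * ⟨x, hRL hx⟩ * l⁻¹ ∈ ((l • S : Sylow 2 L) : Subgroup L) := ⟨_, h1, rfl⟩
  rw [hl] at h2
  have h3 : (l : C) * x * (l : C)⁻¹ ∈ j.range := h2
  have h4 : (j f0)⁻¹ * l * x * ((j f0)⁻¹ * l)⁻¹ = (j f0)⁻¹ * ((l : C) * x * (l : C)⁻¹) * j f0 := by group
  rw [h4]
  exact j.range.mul_mem (j.range.mul_mem (j.range.inv_mem ⟨_, rfl⟩) h3) ⟨_, rfl⟩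

end Cfsg.Agent.H244.Kondo
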