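import Mathlib
import Cfsg.Agent.SylowSp4.ExtTransfer
import Cfsg.Agent.H306.Kon.Alt
import Cfsg.Agent.H244.Kondo.Lift
set_option linter.all false

-- part: H244/Kondo/Dih
section
/-!
# Powers of the dihedral group of order 8 (helper244, for S3191)

`D = DihedralGroup 4`, `chi b : D →* ℤˣ` (`b : Bool`), `RD b = ker (chi (!b))` are the two four-subgroups, `z = r 2` the centre.
`Rm β ≤ Fin n → D` is the product of the `RD (β i)`.
-/

set_option autoImplicit false

namespace Cfsg.Agent.H244.Kondo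

open Subgroup

/-- the dihedral group of order 8 -/
abbrev D : Type := DihedralGroup 4

/-- the central involution -/
def z : D := DihedralGroup.r 2

/-- values of the two linear characters -/
def chiFun (b : Bool) : D → ℤˣ
  | DihedralGroup.r i => if i.val % 2 = 0 then 1 else -1
  | DihedralGroup.sr i => if (i.val % 2 = 0) = (b = true) then -1 else 1

/-- the two characters: `chi b` is non-trivial on `RD b` and trivial on `RD (!b)` -/
def chi (b : Bool) : D →* ℤˣ where
  toFun := chiFun b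
  map_one' := by revert b; decide
  map_mul' := by revert b; decide

/-- the non central involution of `RD b` -/
def rr (b : Bool) : D := if b then DihedralGroup.sr 0 else DihedralGroup.sr 1

theorem z_ne_one : z ≠ 1 := by decide

theorem zz : z * z = 1 := by decide

theorem chi_z (b : Bool) : chi b z = 1 := by revert b; decide

theorem chi_rr (b : Bool) : chi b (rr b) = -1 := by revert b; decide

theorem chi_not_rr (b : Bool) : chi (!b) (rr b) = 1 := by revert b; decide

theorem rr_mul_rr (b : Bool) : rr b * rr b = 1 := by revert b; decide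

theorem eq_one_or_z {x : D} (h1 : chi true x = 1) (h2 : chi false x = 1) : x = 1 ∨ x = z := by
  revert x; decide

theorem eq_one_or_z' (b : Bool) {x : D} (h1 : chi b x = 1) (h2 : chi (!b) x = 1) : x = 1 ∨ x = z := by
  revert b x; decide

theorem comm_eq (x y : D) : x * y * x⁻¹ * y⁻¹ = 1 ∨ x * y * x⁻¹ * y⁻¹ = z := by
  revert x y; decide

theorem z_comm (x : D) : x * z = z * x := by revert x; decide

/-- elements outside `RD b` do not commute with the non central elements of `RD b` -/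
theorem comm_ne_one (b : Bool) {x y : D} (hx : chi (!b) x ≠ 1) (hy : chi (!b) y = 1) (hy' : chi b y ≠ 1) :
    x * y * x⁻¹ * y⁻¹ = z := by
  revert b x y; decide

theorem comm_eq_one (b : Bool) {x y : D} (hx : chi (!b) x = 1) (hy : chi (!b) y = 1) :
    x * y = y * x := by
  revert b x y; decide

theorem sq_eq_one (b : Bool) {x : D} (hx : chi (!b) x = 1) : x * x = 1 := by
  revert b x; decide

theorem mem_of_sq {x : D} (hx : x * x = 1) : chi true x = 1 ∨ chi false x = 1 := by
  revert x; decide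

theorem mem_of_sq' (b : Bool) {x : D} (hx : x * x = 1) (h : chi (!b) x ≠ 1) : chi b x = 1 := by
  revert b x; decide

/-- a non central element does not commute with one of `rr true`, `rr false` -/
theorem exists_comm_ne {x : D} (hx : x ≠ 1) (hx' : x ≠ z) : ∃ b, x * rr b * x⁻¹ * (rr b)⁻¹ = z := by
  revert x; decide

theorem exists_mul (x : D) : ∃ e f : D, chi false e = 1 ∧ chi true f = 1 ∧ x = e * f := by
  revert x; decide

theorem rr_conj (b : Bool) {x : D} (hx : chi (!b) x = 1) (hx' : chi b x ≠ 1) :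
    rr (!b) * x * (rr (!b))⁻¹ = x * z := by
  revert b x; decide

variable {n : ℕ}

/-- products of the four-groups `RD (β i)` -/
def Rm (β : Fin n → Bool) : Subgroup (Fin n → D) where
  carrier := {f | ∀ i, chi (!(β i)) (f i) = 1}
  one_mem' := fun i => by rw [Pi.one_apply, map_one]
  mul_mem' := by
    intro f g hf hg i
    rw [Pi.mul_apply, map_mul, hf i, hg i, one_mul]
  inv_mem' := by
    intro f hf i
    rw [Pi.inv_apply, map_inv, hf i, inv_one]

theorem mem_Rm {β : Fin n → Bool} {f : Fin n → D} : f ∈ Rm β ↔ ∀ i, chi (!(β i)) (f i) = 1 := Iff.rfl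

theorem card_RD (b : Bool) : Fintype.card {x : D // chi (!b) x = 1} = 4 := by revert b; decide

theorem card_Rm (β : Fin n → Bool) : Nat.card (Rm β) = 4 ^ n := by
  have e : (Rm β) ≃ ((i : Fin n) → {x : D // chi (!(β i)) x = 1}) :=
    { toFun := fun f i => ⟨f.1 i, f.2 i⟩
      invFun := fun f => ⟨fun i => (f i).1, fun i => (f i).2⟩
      left_inv := fun f => rfl
      right_inv := fun f => rfl }
  rw [Nat.card_congr e, Nat.card_eq_fintype_card, Fintype.card_pi]
  simp only [card_RD, Finset.prod_const, Finset.card_univ, Fintype.card_fin]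

theorem Rm_comm {β : Fin n → Bool} {f g : Fin n → D} (hf : f ∈ Rm β) (hg : g ∈ Rm β) : f * g = g * f := by
  funext i
  exact comm_eq_one (β i) (hf i) (hg i)

theorem Rm_sq {β : Fin n → Bool} {f : Fin n → D} (hf : f ∈ Rm β) : f * f = 1 := by
  funext i
  exact sq_eq_one (β i) (hf i)

/-- subgroups of exponent two of `Fin n → D` have order at most `4 ^ n` -/
theorem card_le (A : Subgroup (Fin n → D)) (hA : ∀ a ∈ A, a * a = 1) : Nat.card A ≤ 4 ^ n := by
  classical
  have h4 : ∀ i : Fin n, Nat.card (A.map (Pi.evalMonoidHom (fun _ => D) i)) ≤ 4 := by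
    intro i
    set B := A.map (Pi.evalMonoidHom (fun _ => D) i) with hB
    have hB2 : ∀ b ∈ B, b * b = 1 := by
      rintro _ ⟨a, ha, rfl⟩
      exact congrFun (hA a ha) i
    have h8 : Nat.card D = 8 := by rw [Nat.card_eq_fintype_card]; decide
    have hd : Nat.card B ∣ 8 := h8 ▸ card_subgroup_dvd_card B
    have hne : Nat.card B ≠ 8 := by
      intro h
      have ht : B = ⊤ := (card_eq_iff_eq_top B).1 (h.trans h8.symm)
      have := hB2 (DihedralGroup.r 1) (by rw [ht]; exact mem_top _)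
      revert this; decide
    have hle := Nat.le_of_dvd (by norm_num) hd
    have hpos : 0 < Nat.card B := Nat.card_pos
    interval_cases (Nat.card B) <;> omega
  have h1 : Nat.card A ≤ Nat.card ((i : Fin n) → A.map (Pi.evalMonoidHom (fun _ => D) i)) := by
    refine Nat.card_le_card_of_injective (fun a i => ⟨a.1 i, ⟨a.1, a.2, rfl⟩⟩) ?_
    intro a b hab
    apply Subtype.ext
    funext i
    exact congrArg Subtype.val (congrFun hab i)
  refine h1.trans ?_
  rw [Nat.card_pi]
  calc ∏ i, Nat.card (A.map (Pi.evalMonoidHom (fun _ => D) i)) ≤ ∏ _i : Fin n, 4 :=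
        Finset.prod_le_prod' (fun i _ => h4 i)
    _ = 4 ^ n := by rw [Finset.prod_const, Finset.card_univ, Fintype.card_fin]

end Cfsg.Agent.H244.Kondo
end

-- part: H244/Kondo/Abs
section
/-!
# Fusion of involutions in groups with Sylow 2-subgroup `D₈ ≀ T` (helper244, for S3191)

The abstract set-up `KD P C j` : `j : (Fin n → D) →* G` is injective with image `J` in the Sylow 2-subgroup `P ≤ C = C_G(t)`,
`t = j (z, ..., z)`.  Main results (no subgroup of index two): every involution of `P` is conjugate to an element of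
`j '' {1, z}^n`, and two elements of this form are conjugate only if they have the same number of components `z`.
-/

set_option autoImplicit false

namespace Cfsg.Agent.H244.Kondo

open Subgroup

section General

variable {G : Type*} [Group G] [Finite G]

theorem conj_mem_of_le {J : Subgroup G} {g : G} (h : ∀ x ∈ J, g * x * g⁻¹ ∈ J) : ∀ x ∈ J, g⁻¹ * x * g ∈ J := by
  have h1 : g ∈ normalizer (J : Set G) := mem_normalizer_fintype h
  intro x hx
  have h2 := (mem_normalizer_iff.1 ((normalizer (J : Set G)).inv_mem h1) x).1 hx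
  rwa [inv_inv] at h2

/-- weak closure and Sylow's theorem in a subgroup `N` -/
theorem exists_conj_of_weakly_closed {p : ℕ} [Fact p.Prime] (P : Sylow p G) (J : Subgroup G)
    (hJ : J ≤ (P : Subgroup G))
    (hw : ∀ g : G, (∀ x ∈ J, g * x * g⁻¹ ∈ (P : Subgroup G)) → ∀ x ∈ J, g * x * g⁻¹ ∈ J)
    (N : Subgroup G) (hJN : J ≤ N) (g : G) (hg : ∀ x ∈ J, g * x * g⁻¹ ∈ N) :
    ∃ c ∈ N, ∀ x ∈ J, (c * g) * x * (c * g)⁻¹ ∈ J := by
  have hJp : IsPGroup p J := P.isPGroup'.to_le hJ
  have h1 : IsPGroup p (J.subgroupOf N) := hJp.comap_of_injective N.subtype N.subtype_injective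
  have h2 : IsPGroup p ((J.map (MulAut.conj g).toMonoidHom).subgroupOf N) :=
    (hJp.map (MulAut.conj g).toMonoidHom).comap_of_injective N.subtype N.subtype_injective
  obtain ⟨P1, hP1⟩ := h1.exists_le_sylow
  obtain ⟨P2, hP2⟩ := h2.exists_le_sylow
  obtain ⟨c, hc⟩ := MulAction.exists_smul_eq N P2 P1
  have h3 : IsPGroup p ((P1 : Subgroup N).map N.subtype) := P1.isPGroup'.map N.subtype
  obtain ⟨Q, hQ⟩ := h3.exists_le_sylow
  obtain ⟨k, hk⟩ := MulAction.exists_smul_eq G P Q
  have hk1 : ∀ x, x ∈ (Q : Subgroup G) → k⁻¹ * x * k ∈ (P : Subgroup G) := by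
    intro x hx
    rw [← hk, Sylow.coe_subgroup_smul, Subgroup.mem_smul_pointwise_iff_exists] at hx
    obtain ⟨y, hy, rfl⟩ := hx
    rw [MulAut.smul_def, MulAut.conj_apply]
    have : k⁻¹ * (k * y * k⁻¹) * k = y := by group
    rw [this]; exact hy
  have hkJ : ∀ x ∈ J, k⁻¹ * x * k ∈ J := by
    have := hw k⁻¹ (by
      intro x hx
      rw [inv_inv]
      apply hk1
      apply hQ
      exact ⟨⟨x, hJN hx⟩, hP1 hx, rfl⟩)
    intro x hx
    have h4 := this x hx
    rwa [inv_inv] at h4
  have hkJ' : ∀ x ∈ J, k * x * k⁻¹ ∈ J := by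
    have := conj_mem_of_le (J := J) (g := k⁻¹) (by
      intro x hx; rw [inv_inv]; exact hkJ x hx)
    intro x hx
    have h4 := this x hx
    rwa [inv_inv] at h4
  have hcg : ∀ x ∈ J, ((c : G) * g) * x * ((c : G) * g)⁻¹ ∈ (Q : Subgroup G) := by
    intro x hx
    apply hQ
    have h4 : (⟨g * x * g⁻¹, hg x hx⟩ : N) ∈ (P2 : Subgroup N) := hP2 ⟨x, hx, rfl⟩
    have h5 : c * ⟨g * x * g⁻¹, hg x hx⟩ * c⁻¹ ∈ (P1 : Subgroup N) := by
      rw [← hc, Sylow.coe_subgroup_smul, Subgroup.mem_smul_pointwise_iff_exists]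
      exact ⟨_, h4, rfl⟩
    refine ⟨_, h5, ?_⟩
    simp only [map_mul, map_inv, coe_subtype]
    group
  refine ⟨c, c.2, ?_⟩
  intro x hx
  have h6 := hw (k⁻¹ * ((c : G) * g)) (by
    intro y hy
    have h7 := hk1 _ (hcg y hy)
    have e : k⁻¹ * ((c : G) * g) * y * (k⁻¹ * ((c : G) * g))⁻¹ = k⁻¹ * ((c : G) * g * y * ((c : G) * g)⁻¹) * k := by
      group
    rw [e]; exact h7) x hx
  have h8 := hkJ' _ h6
  have e : k * (k⁻¹ * ((c : G) * g) * x * (k⁻¹ * ((c : G) * g))⁻¹) * k⁻¹ = (c : G) * g * x * ((c : G) * g)⁻¹ := by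
    group
  rwa [e] at h8

end General

section Main

variable {G : Type*} [Group G] [Finite G] {n : ℕ}

/-- the set-up -/
structure KD (P : Sylow 2 G) (C : Subgroup G) (j : (Fin n → D) →* G) : Prop where
  inj : Function.Injective j
  le : ∀ f, j f ∈ (P : Subgroup G)
  leC : (P : Subgroup G) ≤ C
  cent : ∀ g, g * j (fun _ => z) * g⁻¹ = j (fun _ => z) → g ∈ C
  rank : ∀ A : Subgroup G, A ≤ (P : Subgroup G) → (∀ a ∈ A, a * a = 1) → Nat.card A = 4 ^ n → A ≤ j.range
  norm : ∀ g ∈ C, (∀ f, g * j f * g⁻¹ ∈ j.range) →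
    ∀ f ∈ Rm (fun _ : Fin n => true), g * j f * g⁻¹ ∈ (Rm (fun _ : Fin n => true)).map j
  perm : ∀ σ : Equiv.Perm (Fin n), ∃ h ∈ C, ∀ f, h * j f * h⁻¹ = j (fun i => f (σ i))
  ch : ∀ b : Bool, ∃ χ : C →* ℤˣ, ∀ f, χ ⟨j f, leC (le f)⟩ = ∏ i, chi b (f i)
  inv : ∀ x ∈ (P : Subgroup G), x * x = 1 → ∃ g, g * x * g⁻¹ ∈ j.range

/-- the `i`-th central involution -/
def zi (i : Fin n) : Fin n → D := Pi.mulSingle i z

/-- the product of the `z_i`, `i ∈ I` -/
def zI (I : Finset (Fin n)) : Fin n → D := fun i => if i ∈ I then z else 1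

theorem zi_ne_one (i : Fin n) : zi i ≠ 1 := by
  intro h
  have h1 := congrFun h i
  rw [zi, Pi.mulSingle_eq_same, Pi.one_apply] at h1
  exact z_ne_one h1

theorem zi_inj {i l : Fin n} (h : zi i = zi l) : i = l := by
  by_contra hne
  have h1 := congrFun h i
  rw [zi, zi, Pi.mulSingle_eq_same, Pi.mulSingle_eq_of_ne hne] at h1
  exact z_ne_one h1

theorem zI_empty : zI (∅ : Finset (Fin n)) = 1 := by
  funext i
  simp [zI]

theorem zI_insert {a : Fin n} {I : Finset (Fin n)} (ha : a ∉ I) : zI (insert a I) = zi a * zI I := by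
  funext i
  rw [Pi.mul_apply, zi]
  by_cases h : i = a
  · subst h
    rw [Pi.mulSingle_eq_same, zI, zI, if_pos (Finset.mem_insert_self _ _), if_neg ha, mul_one]
  · rw [Pi.mulSingle_eq_of_ne h, one_mul, zI, zI]
    by_cases h2 : i ∈ I
    · rw [if_pos (Finset.mem_insert_of_mem h2), if_pos h2]
    · rw [if_neg (by rw [Finset.mem_insert]; tauto), if_neg h2]

theorem zI_univ : zI (Finset.univ : Finset (Fin n)) = fun _ => z := by
  funext i
  simp [zI]

theorem exists_zI {f : Fin n → D} (hf : ∀ i, f i = 1 ∨ f i = z) : ∃ I, f = zI I := by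
  classical
  refine ⟨Finset.univ.filter (fun i => f i = z), ?_⟩
  funext i
  rw [zI]
  by_cases h : f i = z
  · rw [if_pos (by rw [Finset.mem_filter]; exact ⟨Finset.mem_univ _, h⟩), h]
  · rw [if_neg (by rw [Finset.mem_filter]; tauto)]
    exact (hf i).resolve_right h

theorem zI_inj {I I' : Finset (Fin n)} (h : zI I = zI I') : I = I' := by
  ext i
  have h1 := congrFun h i
  rw [zI, zI] at h1
  by_cases h2 : i ∈ I <;> by_cases h3 : i ∈ I'
  · exact ⟨fun _ => h3, fun _ => h2⟩
  · rw [if_pos h2, if_neg h3] at h1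
    exact absurd h1 z_ne_one
  · rw [if_neg h2, if_pos h3] at h1
    exact absurd h1.symm z_ne_one
  · exact ⟨fun h => absurd h h2, fun h => absurd h h3⟩

theorem single_comm (i : Fin n) (q : D) (y : Fin n → D) :
    Pi.mulSingle i q * y * (Pi.mulSingle i q)⁻¹ * y⁻¹ = Pi.mulSingle i (q * y i * q⁻¹ * (y i)⁻¹) := by
  funext m
  by_cases h : m = i
  · subst h
    simp only [Pi.mul_apply, Pi.inv_apply, Pi.mulSingle_eq_same]
  · simp only [Pi.mul_apply, Pi.inv_apply, Pi.mulSingle_eq_of_ne h]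
    group

theorem comm_single (x : Fin n → D) (l : Fin n) (w : D) :
    x * Pi.mulSingle l w * x⁻¹ * (Pi.mulSingle l w)⁻¹ = Pi.mulSingle l (x l * w * (x l)⁻¹ * w⁻¹) := by
  funext m
  by_cases h : m = l
  · subst h
    simp only [Pi.mul_apply, Pi.inv_apply, Pi.mulSingle_eq_same]
  · simp only [Pi.mul_apply, Pi.inv_apply, Pi.mulSingle_eq_of_ne h]
    group

section Hom

variable {j : (Fin n → D) →* G} (hj : Function.Injective j)
include hj

omit [Finite G] in
/-- minimal commutators: the image of `z_i` -/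
theorem zi_map {g : G} {i l : Fin n} {q : D} {x' y : Fin n → D} {w : D}
    (hx : g * j (Pi.mulSingle i q) * g⁻¹ = j x') (hy : g * j y * g⁻¹ = j (Pi.mulSingle l w))
    (hw : x' l * w * (x' l)⁻¹ * w⁻¹ = z) : g * j (zi i) * g⁻¹ = j (zi l) := by
  have h1 : g * j (Pi.mulSingle i q * y * (Pi.mulSingle i q)⁻¹ * y⁻¹) * g⁻¹ =
      j (x' * Pi.mulSingle l w * x'⁻¹ * (Pi.mulSingle l w)⁻¹) := by
    simp only [map_mul, map_inv]
    rw [← hx, ← hy]
    group
  rw [single_comm, comm_single, hw] at h1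
  rcases comm_eq q (y i) with h2 | h2
  · rw [h2, Pi.mulSingle_one, map_one] at h1
    have h3 : j (zi l) = 1 := by rw [zi, ← h1]; group
    rw [← map_one j] at h3
    exact absurd (hj h3) (zi_ne_one l)
  · rw [h2] at h1
    exact h1

omit [Finite G] hj in
theorem zI_map {g : G} {σ : Fin n → Fin n} (hσ : Function.Injective σ) {I : Finset (Fin n)}
    (h : ∀ i ∈ I, g * j (zi i) * g⁻¹ = j (zi (σ i))) : g * j (zI I) * g⁻¹ = j (zI (I.image σ)) := by
  classical
  induction I using Finset.induction_on with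
  | empty => rw [Finset.image_empty, zI_empty, map_one]; group
  | insert a I ha ih =>
    have h1 : σ a ∉ I.image σ := by
      rw [Finset.mem_image]
      rintro ⟨b, hb, hba⟩
      exact ha (hσ hba ▸ hb)
    rw [Finset.image_insert, zI_insert ha, zI_insert h1, map_mul, map_mul,
      ← ih (fun i hi => h i (Finset.mem_insert_of_mem hi)), ← h a (Finset.mem_insert_self _ _)]
    group

/-- elements normalising `J` permute the `z_i` -/
theorem exists_perm {g : G} (hg : ∀ f, g * j f * g⁻¹ ∈ j.range) :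
    ∃ σ : Fin n → Fin n, Function.Injective σ ∧ ∀ i, g * j (zi i) * g⁻¹ = j (zi (σ i)) := by
  have hg' : ∀ x ∈ j.range, g * x * g⁻¹ ∈ j.range := by
    rintro _ ⟨f, rfl⟩; exact hg f
  have hsur : ∀ y', ∃ y, g * j y * g⁻¹ = j y' := by
    intro y'
    obtain ⟨y, hy⟩ := conj_mem_of_le hg' (j y') ⟨y', rfl⟩
    exact ⟨y, by rw [hy]; group⟩
  have key : ∀ i, ∃ l, g * j (zi i) * g⁻¹ = j (zi l) := by
    intro i
    obtain ⟨x', hx'⟩ := hg (Pi.mulSingle i (DihedralGroup.r 1))
    have h1 : ∃ l, x' l ≠ 1 ∧ x' l ≠ z := by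
      by_contra hcon
      push Not at hcon
      have hc : ∀ y, x' * y = y * x' := by
        intro y
        funext m
        rw [Pi.mul_apply, Pi.mul_apply]
        by_cases h2 : x' m = 1
        · rw [h2, one_mul, mul_one]
        · rw [hcon m h2, z_comm]
      obtain ⟨w, hw⟩ := hg (Pi.mulSingle i (rr true))
      have h3 : j (Pi.mulSingle i (DihedralGroup.r 1) * Pi.mulSingle i (rr true)) =
          j (Pi.mulSingle i (rr true) * Pi.mulSingle i (DihedralGroup.r 1)) := by
        rw [map_mul, map_mul]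
        have h4 := congrArg j (hc w)
        rw [map_mul, map_mul, hx', hw] at h4
        have h5 : g * (j (Pi.mulSingle i (DihedralGroup.r 1)) * j (Pi.mulSingle i (rr true))) * g⁻¹ =
            g * (j (Pi.mulSingle i (rr true)) * j (Pi.mulSingle i (DihedralGroup.r 1))) * g⁻¹ := by
          calc _ = g * j (Pi.mulSingle i (DihedralGroup.r 1)) * g⁻¹ * (g * j (Pi.mulSingle i (rr true)) * g⁻¹) := by
                group
            _ = _ := by rw [h4]; group
        exact mul_left_cancel (mul_right_cancel h5)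
      have h6 := congrFun (hj h3) i
      rw [Pi.mul_apply, Pi.mul_apply, Pi.mulSingle_eq_same, Pi.mulSingle_eq_same] at h6
      revert h6; decide
    obtain ⟨l, hl1, hlz⟩ := h1
    obtain ⟨b, hb⟩ := exists_comm_ne hl1 hlz
    obtain ⟨y, hy⟩ := hsur (Pi.mulSingle l (rr b))
    exact ⟨l, zi_map hj hx'.symm hy hb⟩
  choose σ hσ using key
  refine ⟨σ, ?_, hσ⟩
  intro i i' hii
  have h1 : g * j (zi i) * g⁻¹ = g * j (zi i') * g⁻¹ := by rw [hσ, hσ, hii]
  exact zi_inj (hj (mul_left_cancel (mul_right_cancel h1)))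

end Hom

namespace KD

variable {P : Sylow 2 G} {C : Subgroup G} {j : (Fin n → D) →* G}

/-- elements normalising `J` lie in `C` -/
theorem mem_C (h : KD P C j) {g : G} (hg : ∀ f, g * j f * g⁻¹ ∈ j.range) : g ∈ C := by
  obtain ⟨σ, hσi, hσ⟩ := exists_perm h.inj hg
  apply h.cent
  have h1 := zI_map hσi (g := g) (j := j) (I := Finset.univ) (fun i _ => hσ i)
  have h2 : Finset.image σ Finset.univ = Finset.univ :=
    Finset.image_univ_of_surjective (Finite.injective_iff_surjective.1 hσi)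
  rw [h2, zI_univ] at h1
  exact h1

end KD

end Main

end Cfsg.Agent.H244.Kondo
end

-- part: H244/Kondo/Weak
section
/-!
# Weak closure in the set-up `KD` (helper244, for S3191)
-/

set_option autoImplicit false

namespace Cfsg.Agent.H244.Kondo

open Subgroup

theorem cases_R (b : Bool) {x : D} (h : chi (!b) x = 1) : x = 1 ∨ x = z ∨ x = rr b ∨ x = rr b * z := by
  revert b x; decide

variable {G : Type*} [Group G] [Finite G] {n : ℕ}

theorem single_mem_Rm {β : Fin n → Bool} {i : Fin n} {x : D} (hx : chi (!(β i)) x = 1) :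
    Pi.mulSingle i x ∈ Rm β := by
  intro m
  by_cases h : m = i
  · subst h
    rw [Pi.mulSingle_eq_same, hx]
  · rw [Pi.mulSingle_eq_of_ne h, map_one]

theorem zI_mem_Rm (β : Fin n → Bool) (I : Finset (Fin n)) : zI I ∈ Rm β := by
  intro m
  rw [zI]
  split_ifs
  · exact chi_z _
  · exact map_one _

theorem zi_eq_zI (i : Fin n) : zi i = zI {i} := by
  funext m
  rw [zi, zI]
  by_cases h : m = i
  · subst h
    rw [Pi.mulSingle_eq_same, if_pos (Finset.mem_singleton_self _)]
  · rw [Pi.mulSingle_eq_of_ne h, if_neg (by rwa [Finset.mem_singleton])]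

theorem zI_comm (I : Finset (Fin n)) (f : Fin n → D) : f * zI I = zI I * f := by
  funext m
  rw [Pi.mul_apply, Pi.mul_apply, zI]
  split_ifs
  · exact z_comm _
  · rw [mul_one, one_mul]

/-- the centre -/
def Zc (n : ℕ) : Subgroup (Fin n → D) := Rm (fun _ => true) ⊓ Rm (fun _ => false)

theorem mem_Zc {f : Fin n → D} : f ∈ Zc n ↔ ∀ i, f i = 1 ∨ f i = z := by
  constructor
  · intro hf i
    exact eq_one_or_z (hf.2 i) (hf.1 i)
  · intro hf
    obtain ⟨I, rfl⟩ := exists_zI hf
    exact ⟨zI_mem_Rm _ _, zI_mem_Rm _ _⟩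

theorem Zc_comm {f : Fin n → D} (hf : f ∈ Zc n) (g : Fin n → D) : g * f = f * g := by
  obtain ⟨I, rfl⟩ := exists_zI (mem_Zc.1 hf)
  exact zI_comm _ _

instance : (Zc n).Normal := ⟨fun f hf g => by
  rw [Zc_comm hf g, mul_inv_cancel_right]; exact hf⟩

theorem comm_mem_Zc (x y : Fin n → D) : x * y * x⁻¹ * y⁻¹ ∈ Zc n := by
  rw [mem_Zc]
  intro i
  exact comm_eq (x i) (y i)

theorem Zc_le_Rm (β : Fin n → Bool) : Zc n ≤ Rm β := by
  intro f hf
  obtain ⟨I, rfl⟩ := exists_zI (mem_Zc.1 hf)
  exact zI_mem_Rm _ _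

/-- elementary abelian subgroups of order `4 ^ n` contain the centre -/
theorem Zc_le (A : Subgroup (Fin n → D)) (hA : ∀ a ∈ A, a * a = 1) (hc : Nat.card A = 4 ^ n) : Zc n ≤ A := by
  have h1 : ∀ x ∈ A ⊔ Zc n, x * x = 1 := by
    intro x hx
    rw [mem_sup_of_normal_right] at hx
    obtain ⟨y, hy, w, hw, rfl⟩ := hx
    have h2 := Zc_comm hw y
    have h3 : w * w = 1 := Rm_sq (Zc_le_Rm (fun _ => true) hw)
    calc y * w * (y * w) = y * (w * y) * w := by group
      _ = (y * y) * (w * w) := by rw [← h2]; group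
      _ = 1 := by rw [hA y hy, h3, one_mul]
  have h2 := card_le _ h1
  have h3 : A = A ⊔ Zc n := eq_of_le_of_card_ge le_sup_left (by rw [hc]; exact h2)
  rw [h3]
  exact le_sup_right

theorem conj_mem_of_Zc_le {A : Subgroup (Fin n → D)} (hA : Zc n ≤ A) (y : Fin n → D) {x : Fin n → D} (hx : x ∈ A) :
    y * x * y⁻¹ ∈ A := by
  have h1 := hA (comm_mem_Zc y x)
  have h2 : y * x * y⁻¹ = y * x * y⁻¹ * x⁻¹ * x := by group
  rw [h2]
  exact A.mul_mem h1 hx

namespace KD

variable {P : Sylow 2 G} {C : Subgroup G} {j : (Fin n → D) →* G}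

omit [Finite G] in
/-- the rank condition -/
theorem rank_mem (h : KD P C j) {β : Fin n → Bool} {g : G} (hg : ∀ f ∈ Rm β, g * j f * g⁻¹ ∈ (P : Subgroup G)) :
    ∀ f ∈ Rm β, g * j f * g⁻¹ ∈ j.range := by
  have h1 : ((Rm β).map j).map (MulAut.conj g).toMonoidHom ≤ j.range := by
    apply h.rank
    · rintro _ ⟨_, ⟨f, hf, rfl⟩, rfl⟩
      exact hg f hf
    · rintro _ ⟨_, ⟨f, hf, rfl⟩, rfl⟩
      rw [← map_mul, ← map_mul, Rm_sq hf, map_one, map_one]
    · rw [Subgroup.card_map_of_injective (MulAut.conj g).injective, Subgroup.card_map_of_injective h.inj, card_Rm]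
  intro f hf
  exact h1 ⟨j f, ⟨f, hf, rfl⟩, rfl⟩

/-- `J` is weakly closed in `P` -/
theorem range_wc (h : KD P C j) {g : G} (hg : ∀ f, g * j f * g⁻¹ ∈ (P : Subgroup G)) :
    ∀ f, g * j f * g⁻¹ ∈ j.range := by
  intro f
  choose e f' he hf' hm using fun i => exists_mul (f i)
  have h1 : f = e * f' := by funext i; exact hm i
  have h2 := h.rank_mem (β := fun _ => true) (g := g) (fun f _ => hg f) e (fun i => he i)
  have h3 := h.rank_mem (β := fun _ => false) (g := g) (fun f _ => hg f) f' (fun i => hf' i)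
  have h4 : g * j f * g⁻¹ = g * j e * g⁻¹ * (g * j f' * g⁻¹) := by rw [h1, map_mul]; group
  rw [h4]
  exact j.range.mul_mem h2 h3

/-- conjugation maps onto -/
theorem exists_preimage {j : (Fin n → D) →* G} {R : Subgroup (Fin n → D)} {g : G} (hg : ∀ f ∈ R, g * j f * g⁻¹ ∈ R.map j)
    {y : Fin n → D} (hy : y ∈ R) : ∃ x ∈ R, g * j x * g⁻¹ = j y := by
  have h1 : ∀ x ∈ R.map j, g * x * g⁻¹ ∈ R.map j := by
    rintro _ ⟨f, hf, rfl⟩; exact hg f hf
  obtain ⟨x, hx, hxe⟩ := conj_mem_of_le h1 (j y) ⟨y, hy, rfl⟩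
  exact ⟨x, hx, by rw [hxe]; group⟩

/-- if `g` normalises `R_b` and moves `x_i = (rr (!b))_i` into `J`, the image has exactly one component outside `RD b` -/
theorem exists_image (h : KD P C j) {b : Bool} {g : G}
    (hR : ∀ f ∈ Rm (fun _ : Fin n => b), g * j f * g⁻¹ ∈ (Rm (fun _ : Fin n => b)).map j) {i : Fin n} {x' : Fin n → D}
    (hx : g * j (Pi.mulSingle i (rr !b)) * g⁻¹ = j x') :
    ∃ l, g * j (zi i) * g⁻¹ = j (zi l) ∧ chi (!b) (x' l) ≠ 1 ∧ ∀ m, chi (!b) (x' m) ≠ 1 → m = l := by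
  have h1 : ∀ m, chi (!b) (x' m) ≠ 1 → g * j (zi i) * g⁻¹ = j (zi m) := by
    intro m hm
    obtain ⟨y, hy, hye⟩ := exists_preimage hR (single_mem_Rm (β := fun _ => b) (i := m) (chi_not_rr b))
    exact zi_map h.inj hx hye (comm_ne_one b hm (chi_not_rr b) (by rw [chi_rr]; decide))
  have h2 : ∃ l, chi (!b) (x' l) ≠ 1 := by
    by_contra hcon
    push Not at hcon
    have h3 : x' ∈ Rm (fun _ : Fin n => b) := hcon
    obtain ⟨y, hy, hye⟩ := exists_preimage hR h3
    have h4 : j y = j (Pi.mulSingle i (rr !b)) := by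
      rw [← hx] at hye
      exact mul_left_cancel (mul_right_cancel hye)
    have h5 := h.inj h4
    have h6 := hy i
    rw [h5, Pi.mulSingle_eq_same, chi_rr] at h6
    revert h6; decide
  obtain ⟨l, hl⟩ := h2
  refine ⟨l, h1 l hl, hl, ?_⟩
  intro m hm
  have h3 := (h1 m hm).symm.trans (h1 l hl)
  exact zi_inj (h.inj h3)

/-- elements normalising `J` normalise `E` and `F` -/
theorem norm_R (h : KD P C j) {g : G} (hg : ∀ f, g * j f * g⁻¹ ∈ j.range) (b : Bool) :
    ∀ f ∈ Rm (fun _ : Fin n => b), g * j f * g⁻¹ ∈ (Rm (fun _ : Fin n => b)).map j := by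
  have hE := h.norm g (h.mem_C hg) hg
  rcases b with _ | _
  swap
  · exact hE
  obtain ⟨σ, hσi, hσ⟩ := exists_perm h.inj hg
  have hσs := Finite.injective_iff_surjective.1 hσi
  choose x' hx' using fun i : Fin n => hg (Pi.mulSingle i (rr false))
  have hA : ∀ i, chi false (x' i (σ i)) ≠ 1 ∧ ∀ m, chi false (x' i m) ≠ 1 → m = σ i := by
    intro i
    obtain ⟨l, hl1, hl2, hl3⟩ := h.exists_image (b := true) hE (i := i) (hx' i).symm
    have h1 : l = σ i := by
      rw [hσ] at hl1
      exact (zi_inj (h.inj hl1)).symm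
    rw [← h1]
    exact ⟨hl2, hl3⟩
  have hF : ∀ i, x' i ∈ Rm (fun _ : Fin n => false) := by
    intro i m
    change chi true (x' i m) = 1
    by_cases hm : m = σ i
    · apply mem_of_sq' true _ (by rw [hm]; exact (hA i).1)
      have h1 : j (x' i * x' i) = 1 := by
        rw [map_mul, hx']
        have h2 : j (Pi.mulSingle i (rr false)) * j (Pi.mulSingle i (rr false)) = 1 := by
          rw [← map_mul, Rm_sq (single_mem_Rm (β := fun _ => false) (chi_not_rr false)), map_one]
        calc g * j (Pi.mulSingle i (rr false)) * g⁻¹ * (g * j (Pi.mulSingle i (rr false)) * g⁻¹)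
            = g * (j (Pi.mulSingle i (rr false)) * j (Pi.mulSingle i (rr false))) * g⁻¹ := by group
          _ = 1 := by rw [h2]; group
      rw [← map_one j] at h1
      exact congrFun (h.inj h1) m
    · obtain ⟨i', rfl⟩ := hσs m
      have hne : i' ≠ i := fun e => hm (by rw [e])
      by_contra hcon
      have h1 : chi false (x' i (σ i')) = 1 := by
        by_contra h2
        exact hm ((hA i).2 _ h2)
      have h2 := comm_ne_one true (hA i').1 h1 hcon
      have h3 : (Pi.mulSingle i' (rr false) : Fin n → D) * Pi.mulSingle i (rr false) =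
          Pi.mulSingle i (rr false) * Pi.mulSingle i' (rr false) := by
        exact Rm_comm (single_mem_Rm (β := fun _ => false) (chi_not_rr false))
          (single_mem_Rm (β := fun _ => false) (chi_not_rr false))
      have h4 : j (x' i' * x' i) = j (x' i * x' i') := by
        rw [map_mul, map_mul, hx', hx']
        have h5 := congrArg j h3
        rw [map_mul, map_mul] at h5
        calc g * j (Pi.mulSingle i' (rr false)) * g⁻¹ * (g * j (Pi.mulSingle i (rr false)) * g⁻¹)
            = g * (j (Pi.mulSingle i' (rr false)) * j (Pi.mulSingle i (rr false))) * g⁻¹ := by group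
          _ = _ := by rw [h5]; group
      have h5 := congrFun (h.inj h4) (σ i')
      rw [Pi.mul_apply, Pi.mul_apply] at h5
      rw [h5, mul_inv_cancel_right, mul_inv_cancel] at h2
      exact z_ne_one h2.symm
  intro f hf
  have h1 : f ∈ ((Rm (fun _ : Fin n => false)).map j).comap ((MulAut.conj g).toMonoidHom.comp j) := by
    apply pi_mem_of_mulSingle_mem
    intro i
    have hz : g * j (zi i) * g⁻¹ ∈ (Rm (fun _ : Fin n => false)).map j := by
      rw [hσ, zi_eq_zI]
      exact ⟨_, zI_mem_Rm _ _, rfl⟩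
    have hr : g * j (Pi.mulSingle i (rr false)) * g⁻¹ ∈ (Rm (fun _ : Fin n => false)).map j := by
      rw [← hx']
      exact ⟨_, hF i, rfl⟩
    change g * j (Pi.mulSingle i (f i)) * g⁻¹ ∈ (Rm (fun _ : Fin n => false)).map j
    rcases cases_R false (hf i) with h2 | h2 | h2 | h2
    · rw [h2, Pi.mulSingle_one, map_one, mul_one, mul_inv_cancel]
      exact one_mem _
    · rw [h2]; exact hz
    · rw [h2]; exact hr
    · have h3 : g * j (Pi.mulSingle i (rr false * z)) * g⁻¹ =
          g * j (Pi.mulSingle i (rr false)) * g⁻¹ * (g * j (zi i) * g⁻¹) := by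
        rw [Pi.mulSingle_mul, map_mul, zi]; group
      rw [h2, h3]
      exact mul_mem hr hz
  exact h1

/-- `E` and `F` are weakly closed in `P` -/
theorem wc_R (h : KD P C j) (b : Bool) {g : G} (hg : ∀ f ∈ Rm (fun _ : Fin n => b), g * j f * g⁻¹ ∈ (P : Subgroup G)) :
    ∀ f ∈ Rm (fun _ : Fin n => b), g * j f * g⁻¹ ∈ (Rm (fun _ : Fin n => b)).map j := by
  have : Fact (Nat.Prime 2) := ⟨Nat.prime_two⟩
  set R : Subgroup (Fin n → D) := Rm (fun _ : Fin n => b) with hRdef
  have hran := h.rank_mem hg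
  set R' : Subgroup G := (R.map j).map (MulAut.conj g).toMonoidHom with hR'
  have hR'le : R' ≤ j.range := by
    rintro _ ⟨_, ⟨f, hf, rfl⟩, rfl⟩
    exact hran f hf
  have hcard : Nat.card (R'.comap j) = 4 ^ n := by
    have h1 : (R'.comap j).map j = R' := by
      rw [map_comap_eq, inf_eq_right]; exact hR'le
    rw [← Subgroup.card_map_of_injective h.inj, h1, hR', Subgroup.card_map_of_injective (MulAut.conj g).injective,
      Subgroup.card_map_of_injective h.inj, card_Rm]
  have hsq : ∀ a ∈ R'.comap j, a * a = 1 := by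
    rintro a ⟨_, ⟨f, hf, rfl⟩, hfa⟩
    apply h.inj
    rw [map_mul, map_one, ← hfa, ← map_mul, ← map_mul, Rm_sq hf, map_one, map_one]
  have hZ := Zc_le _ hsq hcard
  have hJN : j.range ≤ normalizer (R' : Set G) := by
    rintro _ ⟨y, rfl⟩
    apply mem_normalizer_fintype
    intro x hx
    obtain ⟨f, rfl⟩ := hR'le hx
    have h1 := conj_mem_of_Zc_le hZ y (x := f) hx
    rw [mem_comap, map_mul, map_mul, map_inv] at h1
    exact h1
  have hgN : ∀ x ∈ j.range, g * x * g⁻¹ ∈ normalizer (R' : Set G) := by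
    rintro _ ⟨y, rfl⟩
    apply mem_normalizer_fintype
    rintro _ ⟨_, ⟨f, hf, rfl⟩, rfl⟩
    refine ⟨j (y * f * y⁻¹), ⟨_, conj_mem_of_Zc_le (Zc_le_Rm _) y hf, rfl⟩, ?_⟩
    have h1 : j (y * f * y⁻¹) = j y * j f * (j y)⁻¹ := by rw [map_mul, map_mul, map_inv]
    change g * j (y * f * y⁻¹) * g⁻¹ = g * j y * g⁻¹ * (g * j f * g⁻¹) * (g * j y * g⁻¹)⁻¹
    rw [h1]
    group
  obtain ⟨c, hcN, hc⟩ := exists_conj_of_weakly_closed P j.range
    (by rintro _ ⟨f, rfl⟩; exact h.le f)
    (by
      intro g hg x hx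
      obtain ⟨f, rfl⟩ := hx
      exact h.range_wc (fun f => hg _ ⟨f, rfl⟩) f) (normalizer (R' : Set G)) hJN g hgN
  have hcg := h.norm_R (g := c * g) (fun f => hc _ ⟨f, rfl⟩) b
  intro f hf
  have h1 : c⁻¹ * (g * j f * g⁻¹) * c ∈ R' := by
    have h2 := (mem_normalizer_iff.1 ((normalizer (R' : Set G)).inv_mem hcN) (g * j f * g⁻¹)).1 ⟨j f, ⟨f, hf, rfl⟩, rfl⟩
    rwa [inv_inv] at h2
  obtain ⟨_, ⟨f1, hf1, rfl⟩, hf2⟩ := h1
  have h3 := hcg f1 hf1
  have h4 : c * g * j f1 * (c * g)⁻¹ = g * j f * g⁻¹ := by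
    have h5 : g * j f1 * g⁻¹ = c⁻¹ * (g * j f * g⁻¹) * c := hf2
    calc c * g * j f1 * (c * g)⁻¹ = c * (g * j f1 * g⁻¹) * c⁻¹ := by group
      _ = _ := by rw [h5]; group
  rwa [h4] at h3

/-- conjugate elements of the centre of `J` have the same number of components -/
theorem card_eq_of_conj (h : KD P C j) {g : G} {I I' : Finset (Fin n)} (hg : g * j (zI I) * g⁻¹ = j (zI I')) :
    I.card = I'.card := by
  have : Fact (Nat.Prime 2) := ⟨Nat.prime_two⟩
  obtain ⟨c, hcN, hc⟩ := exists_conj_of_weakly_closed P j.range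
    (by rintro _ ⟨f, rfl⟩; exact h.le f)
    (by
      intro g hg x hx
      obtain ⟨f, rfl⟩ := hx
      exact h.range_wc (fun f => hg _ ⟨f, rfl⟩) f) (centralizer {j (zI I')})
    (by
      rintro _ ⟨f, rfl⟩
      rw [mem_centralizer_singleton_iff, ← map_mul, ← map_mul, zI_comm]) g
    (by
      rintro _ ⟨f, rfl⟩
      rw [mem_centralizer_singleton_iff, ← hg]
      have h1 : j f * j (zI I) = j (zI I) * j f := by rw [← map_mul, ← map_mul, zI_comm]
      calc g * j f * g⁻¹ * (g * j (zI I) * g⁻¹) = g * (j f * j (zI I)) * g⁻¹ := by group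
        _ = _ := by rw [h1]; group)
  obtain ⟨σ, hσi, hσ⟩ := exists_perm h.inj (fun f => hc _ ⟨f, rfl⟩)
  have h1 := zI_map hσi (I := I) (fun i _ => hσ i)
  have h2 : c * g * j (zI I) * (c * g)⁻¹ = j (zI I') := by
    rw [mem_centralizer_singleton_iff] at hcN
    calc c * g * j (zI I) * (c * g)⁻¹ = c * (g * j (zI I) * g⁻¹) * c⁻¹ := by group
      _ = j (zI I') := by rw [hg, hcN, mul_inv_cancel_right]
  rw [h1] at h2
  rw [← zI_inj (h.inj h2), Finset.card_image_of_injective _ hσi]

end KD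

end Cfsg.Agent.H244.Kondo
end

-- part: H244/Kondo/Key
section
/-!
# The key lemma: local fusion in a block (helper244, for S3191)
-/

set_option autoImplicit false

namespace Cfsg.Agent.H244.Kondo

open Subgroup

theorem rr_ne_one (b : Bool) : rr b ≠ 1 := by revert b; decide

theorem exists_mul' (b : Bool) (x : D) : ∃ e s : D, chi (!b) e = 1 ∧ (s = 1 ∨ s = rr !b) ∧ x = e * s := by
  revert b x; decide

variable {G : Type*} [Group G] [Finite G] {n : ℕ}

omit [Finite G] in
theorem hom_eq_one (hG : ∀ H : Subgroup G, H.index ≠ 2) (f : G →* ℤˣ) (u : G) : f u = 1 := by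
  by_contra hu
  have h1 : f u = -1 := (Int.units_eq_one_or (f u)).resolve_left hu
  apply hG f.ker
  rw [Subgroup.index_ker]
  have h2 : f.range = ⊤ := by
    rw [eq_top_iff]
    intro x _
    rcases Int.units_eq_one_or x with rfl | rfl
    · exact one_mem _
    · exact ⟨u, h1⟩
  rw [h2, Nat.card_congr Subgroup.topEquiv.toEquiv, Nat.card_eq_fintype_card]
  rfl

/-- the subgroup of the elements with component `i0` in `RD b` -/
def Bm (b : Bool) (i0 : Fin n) : Subgroup (Fin n → D) := ((chi (!b)).comp (Pi.evalMonoidHom (fun _ => D) i0)).ker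

theorem mem_Bm {b : Bool} {i0 : Fin n} {f : Fin n → D} : f ∈ Bm b i0 ↔ chi (!b) (f i0) = 1 := Iff.rfl

theorem Rm_le_Bm (b : Bool) (i0 : Fin n) : Rm (fun _ : Fin n => b) ≤ Bm b i0 := fun _ hf => hf i0

namespace KD

variable {P : Sylow 2 G} {C : Subgroup G} {j : (Fin n → D) →* G}

/-- a conjugating element from the extremal transfer lemma -/
theorem exists_transfer (h : KD P C j) (hG : ∀ H : Subgroup G, H.index ≠ 2) (b : Bool) (i0 : Fin n) :
    ∃ g : G, (∀ f, f * Pi.mulSingle i0 (rr b) = Pi.mulSingle i0 (rr b) * f → g * j f * g⁻¹ ∈ (P : Subgroup G)) ∧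
      ∀ u', g * j (Pi.mulSingle i0 (rr b)) * g⁻¹ = j u' → ∏ i, chi b (u' i) = 1 := by
  obtain ⟨χ, hχ⟩ := h.ch b
  set u : G := j (Pi.mulSingle i0 (rr b)) with hu
  have huP : u ∈ (P : Subgroup G) := h.le _
  have hχu : χ ⟨u, h.leC huP⟩ = -1 := by
    have h1 := hχ (Pi.mulSingle i0 (rr b))
    rw [Finset.prod_eq_single i0 (by
      intro i _ hi
      rw [Pi.mulSingle_eq_of_ne hi, map_one]) (fun hn => absurd (Finset.mem_univ _) hn), Pi.mulSingle_eq_same,
      chi_rr] at h1
    exact h1
  set T : Subgroup G := χ.ker.map C.subtype ⊓ (P : Subgroup G) with hT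
  have memT : ∀ x (hx : x ∈ (P : Subgroup G)), x ∈ T ↔ χ ⟨x, h.leC hx⟩ = 1 := by
    intro x hx
    constructor
    · rintro ⟨⟨y, hy, hyx⟩, -⟩
      have h1 : y = ⟨x, h.leC hx⟩ := Subtype.ext hyx
      rw [← h1]
      exact hy
    · intro h1
      exact ⟨⟨⟨x, h.leC hx⟩, h1, rfl⟩, hx⟩
  have hmul : ∀ x (hx : x ∈ (P : Subgroup G)) y (hy : y ∈ (P : Subgroup G)),
      χ ⟨x * y, h.leC (mul_mem hx hy)⟩ = χ ⟨x, h.leC hx⟩ * χ ⟨y, h.leC hy⟩ := by
    intro x hx y hy
    rw [← map_mul]; rfl
  have hidx : T.relIndex (P : Subgroup G) = 2 := by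
    rw [Subgroup.relIndex_eq_two_iff_exists_notMem_and]
    refine ⟨u, huP, ?_, ?_⟩
    · rw [memT u huP, hχu]; decide
    · intro x hx
      rcases Int.units_eq_one_or (χ ⟨x, h.leC hx⟩) with h1 | h1
      · right
        exact (memT x hx).2 h1
      · left
        rw [memT _ (mul_mem hx huP), hmul x hx u huP, h1, hχu]; rfl
  obtain ⟨g, hg1, hg2⟩ := SylowSp4.ExtTransfer.exists_extremal P T inf_le_right hidx u
    (by rw [hu, ← map_mul, Rm_sq (single_mem_Rm (β := fun _ => b) (chi_not_rr b)), map_one])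
    (fun f => hom_eq_one hG f u) ((P : Subgroup G) ⊓ centralizer {u}) (P.isPGroup'.to_le inf_le_left)
    (fun r hr => mem_centralizer_singleton_iff.1 hr.2)
  refine ⟨g, ?_, ?_⟩
  · intro f hf
    apply hg2
    refine ⟨h.le f, ?_⟩
    change j f ∈ centralizer {u}
    rw [mem_centralizer_singleton_iff, hu, ← map_mul, ← map_mul, hf]
  · intro u' hu'
    rw [← hχ]
    have h1 := hg1
    rw [hu'] at h1
    exact (memT _ (h.le u')).1 h1

/-- **the key lemma** -/
theorem exists_key (h : KD P C j) (hG : ∀ H : Subgroup G, H.index ≠ 2) (b : Bool) (i0 : Fin n) :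
    ∃ k : G, (∀ i, i ≠ i0 → k * j (zi i) * k⁻¹ = j (zi i)) ∧
      (∀ f ∈ Rm (fun _ : Fin n => b), k * j f * k⁻¹ ∈ (Rm (fun _ : Fin n => b)).map j) ∧
      (∀ f ∈ Bm b i0, k * j f * k⁻¹ ∈ (Bm b i0).map j) ∧
      ∃ c, chi (!b) (c i0) = 1 ∧ chi b (c i0) ≠ 1 ∧ (∀ m, m ≠ i0 → c m = 1 ∨ c m = z) ∧
        k * j (zi i0) * k⁻¹ = j c := by
  classical
  obtain ⟨g, hgP, hgu⟩ := h.exists_transfer hG b i0
  have hgR := h.wc_R b (g := g) (fun f hf => hgP f
    (Rm_comm hf (single_mem_Rm (β := fun _ => b) (chi_not_rr b))))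
  set β : Fin n → Bool := Function.update (fun _ => !b) i0 b with hβ
  have hβ0 : β i0 = b := Function.update_self ..
  have hβi : ∀ i, i ≠ i0 → β i = !b := fun i hi => Function.update_of_ne hi ..
  have hgβ := h.rank_mem (β := β) (g := g) (fun f hf => hgP f
    (Rm_comm hf (single_mem_Rm (β := β) (by rw [hβ0]; exact chi_not_rr b))))
  have hx0 : ∀ i, i ≠ i0 → ∃ x', j x' = g * j (Pi.mulSingle i (rr !b)) * g⁻¹ := by
    intro i hi
    exact hgβ _ (single_mem_Rm (β := β) (by rw [hβi i hi]; exact chi_not_rr (!b)))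
  choose x' hx' using hx0
  have hl0 : ∀ i (hi : i ≠ i0), ∃ l, g * j (zi i) * g⁻¹ = j (zi l) ∧ chi (!b) (x' i hi l) ≠ 1 ∧
      ∀ m, chi (!b) (x' i hi m) ≠ 1 → m = l := fun i hi => h.exists_image hgR (hx' i hi).symm
  choose l hl1 hl2 hl3 using hl0
  have hlinj : Function.Injective (fun x : {x : Fin n // x ≠ i0} => l x.1 x.2) := by
    rintro ⟨i, hi⟩ ⟨i', hi'⟩ hii
    have h1 : g * j (zi i) * g⁻¹ = g * j (zi i') * g⁻¹ := by
      rw [hl1 i hi, hl1 i' hi']
      exact congrArg (fun x => j (zi x)) hii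
    exact Subtype.ext (zi_inj (h.inj (mul_left_cancel (mul_right_cancel h1))))
  obtain ⟨σ, hσ⟩ := Equiv.Perm.exists_extending_pair (fun x : {x : Fin n // x ≠ i0} => (x : Fin n))
    (fun x => l x.1 x.2) Subtype.val_injective hlinj
  have hσi : ∀ i (hi : i ≠ i0), σ i = l i hi := fun i hi => hσ ⟨i, hi⟩
  obtain ⟨w, hwC, hw⟩ := h.perm σ
  have hwz : ∀ i, w * j (zi (σ i)) * w⁻¹ = j (zi i) := by
    intro i
    rw [hw]
    congr 1
    funext m
    by_cases hm : m = i
    · subst hm
      rw [zi, zi, Pi.mulSingle_eq_same, Pi.mulSingle_eq_same]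
    · rw [zi, zi, Pi.mulSingle_eq_of_ne hm, Pi.mulSingle_eq_of_ne (fun e => hm (σ.injective e))]
  set g' : G := w * g with hg'
  have hgw : ∀ x, g' * x * g'⁻¹ = w * (g * x * g⁻¹) * w⁻¹ := fun x => by rw [hg']; group
  have g1 : ∀ i, i ≠ i0 → g' * j (zi i) * g'⁻¹ = j (zi i) := by
    intro i hi
    rw [hgw, hl1 i hi, ← hσi i hi, hwz]
  have g2 : ∀ f ∈ Rm (fun _ : Fin n => b), g' * j f * g'⁻¹ ∈ (Rm (fun _ : Fin n => b)).map j := by
    intro f hf
    obtain ⟨f', hf', hfe⟩ := hgR f hf
    rw [hgw, ← hfe, hw]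
    exact ⟨_, fun i => hf' (σ i), rfl⟩
  have g3 : ∀ i (hi : i ≠ i0), g' * j (Pi.mulSingle i (rr !b)) * g'⁻¹ = j (fun m => x' i hi (σ m)) := by
    intro i hi
    rw [hgw, ← hx' i hi, hw]
  have g3a : ∀ i (hi : i ≠ i0), chi (!b) (x' i hi (σ i)) ≠ 1 := by
    intro i hi
    rw [hσi i hi]; exact hl2 i hi
  have g3b : ∀ i (hi : i ≠ i0) m, m ≠ i → chi (!b) (x' i hi (σ m)) = 1 := by
    intro i hi m hm
    by_contra hc
    have h1 := hl3 i hi _ hc
    rw [← hσi i hi] at h1
    exact hm (σ.injective h1)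
  obtain ⟨u1, hu1, hu1e⟩ := hgR (Pi.mulSingle i0 (rr b)) (single_mem_Rm (β := fun _ => b) (chi_not_rr b))
  set u' : Fin n → D := fun i => u1 (σ i) with hu'
  have hu'e : g' * j (Pi.mulSingle i0 (rr b)) * g'⁻¹ = j u' := by
    rw [hgw, ← hu1e, hw]
  have hu'R : ∀ m, chi (!b) (u' m) = 1 := fun m => hu1 (σ m)
  have hprod : ∏ i, chi b (u' i) = 1 := by
    rw [hu', Equiv.prod_comp σ (fun i => chi b (u1 i))]
    exact hgu u1 hu1e.symm
  have hu'm : ∀ m, m ≠ i0 → chi b (u' m) = 1 := by
    intro m hm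
    by_contra hc
    have h1 := comm_ne_one b (g3a m hm) (hu'R m) hc
    have h2 : (Pi.mulSingle m (rr !b) : Fin n → D) * Pi.mulSingle i0 (rr b) =
        Pi.mulSingle i0 (rr b) * Pi.mulSingle m (rr !b) :=
      Rm_comm (single_mem_Rm (β := β) (by rw [hβi m hm]; exact chi_not_rr (!b)))
        (single_mem_Rm (β := β) (by rw [hβ0]; exact chi_not_rr b))
    have h3 : j ((fun m' => x' m hm (σ m')) * u') = j (u' * (fun m' => x' m hm (σ m'))) := by
      rw [map_mul, map_mul, ← g3 m hm, ← hu'e]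
      have h4 := congrArg j h2
      rw [map_mul, map_mul] at h4
      calc g' * j (Pi.mulSingle m (rr !b)) * g'⁻¹ * (g' * j (Pi.mulSingle i0 (rr b)) * g'⁻¹)
          = g' * (j (Pi.mulSingle m (rr !b)) * j (Pi.mulSingle i0 (rr b))) * g'⁻¹ := by group
        _ = _ := by rw [h4]; group
    have h4 : x' m hm (σ m) * u' m = u' m * x' m hm (σ m) := congrFun (h.inj h3) m
    rw [h4, mul_inv_cancel_right, mul_inv_cancel] at h1
    exact z_ne_one h1.symm
  have hu'0 : chi b (u' i0) = 1 := by
    rwa [Finset.prod_eq_single i0 (fun m _ hm => hu'm m hm) (fun hn => absurd (Finset.mem_univ _) hn)] at hprod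
  have hu'Z : ∀ m, u' m = 1 ∨ u' m = z := by
    intro m
    by_cases hm : m = i0
    · rw [hm]
      exact eq_one_or_z' b hu'0 (hu'R i0)
    · exact eq_one_or_z' b (hu'm m hm) (hu'R m)
  obtain ⟨I, hI⟩ := exists_zI hu'Z
  have hfix : ∀ I' : Finset (Fin n), i0 ∉ I' → g' * j (zI I') * g'⁻¹ = j (zI I') := by
    intro I' hI'
    have h1 := zI_map (g := g') (j := j) (σ := id) Function.injective_id (I := I')
      (fun i hi => g1 i (fun e => hI' (e ▸ hi)))
    rwa [Finset.image_id] at h1
  have hi0I : i0 ∈ I := by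
    by_contra hc
    have h1 := hfix I hc
    rw [← hI, ← hu'e] at h1
    have h2 := mul_left_cancel (mul_right_cancel h1)
    rw [hu'e] at h2
    have h3 := congrFun (h.inj h2) i0
    rw [hI, Pi.mulSingle_eq_same, zI, if_neg hc] at h3
    exact rr_ne_one b h3.symm
  set I' := I.erase i0 with hI'
  have hI'0 : i0 ∉ I' := Finset.notMem_erase i0 I
  have hII : zI I = zi i0 * zI I' := by
    rw [← zI_insert hI'0, hI', Finset.insert_erase hi0I]
  set c : Fin n → D := Pi.mulSingle i0 (rr b) * zI I' with hc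
  have hgc : g' * j c * g'⁻¹ = j (zi i0) := by
    have h1 : g' * j c * g'⁻¹ = g' * j (Pi.mulSingle i0 (rr b)) * g'⁻¹ * (g' * j (zI I') * g'⁻¹) := by
      rw [hc, map_mul]; group
    have h2 : zI I' * zI I' = 1 := Rm_sq (zI_mem_Rm (fun _ => true) I')
    rw [h1, hu'e, hfix I' hI'0, hI, hII, ← map_mul, mul_assoc, h2, mul_one]
  have gB : ∀ f ∈ Bm b i0, g' * j f * g'⁻¹ ∈ (Bm b i0).map j := by
    intro f hf
    have h1 : f ∈ ((Bm b i0).map j).comap ((MulAut.conj g').toMonoidHom.comp j) := by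
      apply pi_mem_of_mulSingle_mem
      intro i
      change g' * j (Pi.mulSingle i (f i)) * g'⁻¹ ∈ (Bm b i0).map j
      have hle : (Rm (fun _ : Fin n => b)).map j ≤ (Bm b i0).map j := Subgroup.map_mono (Rm_le_Bm b i0)
      by_cases hi : i = i0
      · subst hi
        exact hle (g2 _ (single_mem_Rm (β := fun _ => b) hf))
      · obtain ⟨e, s, he, hs, hes⟩ := exists_mul' b (f i)
        have h3 : g' * j (Pi.mulSingle i (e * s)) * g'⁻¹ =
            g' * j (Pi.mulSingle i e) * g'⁻¹ * (g' * j (Pi.mulSingle i s) * g'⁻¹) := by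
          rw [Pi.mulSingle_mul, map_mul]; group
        rw [hes, h3]
        refine mul_mem (hle (g2 _ (single_mem_Rm (β := fun _ => b) he))) ?_
        rcases hs with hs | hs
        · rw [hs, Pi.mulSingle_one, map_one, mul_one, mul_inv_cancel]
          exact one_mem _
        · rw [hs, g3 i hi]
          exact ⟨_, g3b i hi i0 (fun e => hi e.symm), rfl⟩
    exact h1
  have hinv : ∀ (B : Subgroup (Fin n → D)), (∀ f ∈ B, g' * j f * g'⁻¹ ∈ B.map j) →
      ∀ f ∈ B, g'⁻¹ * j f * g'⁻¹⁻¹ ∈ B.map j := by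
    intro B hB f hf
    rw [inv_inv]
    exact conj_mem_of_le (J := B.map j) (by rintro _ ⟨x, hx, rfl⟩; exact hB x hx) (j f) ⟨f, hf, rfl⟩
  refine ⟨g'⁻¹, ?_, hinv _ g2, hinv _ gB, c, ?_, ?_, ?_, ?_⟩
  · intro i hi
    have h1 := g1 i hi
    rw [inv_inv]
    nth_rewrite 1 [← h1]
    group
  · rw [hc, Pi.mul_apply, Pi.mulSingle_eq_same, map_mul, chi_not_rr, zI, if_neg hI'0, map_one, one_mul]
  · rw [hc, Pi.mul_apply, Pi.mulSingle_eq_same, map_mul, chi_rr, zI, if_neg hI'0, map_one, mul_one]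
    decide
  · intro m hm
    rw [hc, Pi.mul_apply, Pi.mulSingle_eq_of_ne hm, one_mul, zI]
    split_ifs
    · exact Or.inr rfl
    · exact Or.inl rfl
  · rw [inv_inv, ← hgc]
    group

end KD

end Cfsg.Agent.H244.Kondo
end

-- part: H244/Kondo/Red
section
/-!
# The number of classes of involutions in the set-up `KD` (helper244, for S3191)
-/

set_option autoImplicit false

namespace Cfsg.Agent.H244.Kondo

open Subgroup

variable {G : Type*} [Group G] [Finite G] {n : ℕ}

theorem central_iff (b : Bool) {x : D} : (x = 1 ∨ x = z) ↔ chi b x = 1 ∧ chi (!b) x = 1 := by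
  revert b x; decide

theorem comm_rr (b : Bool) : rr b * rr (!b) * (rr b)⁻¹ * (rr (!b))⁻¹ = z := by
  revert b; decide

theorem eq_not_of_ne {e b : Bool} (h : e ≠ b) : e = !b := by
  revert e b; decide

omit [Finite G] in
/-- components under a conjugation -/
theorem comp_iff {j : (Fin n → D) →* G} (hj : Function.Injective j) {k : G} {m : Fin n} {e : Bool} {p f f1 : Fin n → D}
    (hp : k * j (Pi.mulSingle m (rr e)) * k⁻¹ = j p) (hp1 : chi (!e) (p m) = 1) (hp2 : chi e (p m) ≠ 1)
    (hz : k * j (zi m) * k⁻¹ = j (zi m)) (hf : k * j f * k⁻¹ = j f1) :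
    chi (!e) (f1 m) = 1 ↔ chi (!e) (f m) = 1 := by
  have h1 : k * j (f * Pi.mulSingle m (rr e) * f⁻¹ * (Pi.mulSingle m (rr e))⁻¹) * k⁻¹ = j (f1 * p * f1⁻¹ * p⁻¹) := by
    simp only [map_mul, map_inv]
    rw [← hp, ← hf]
    group
  rw [comm_single] at h1
  constructor
  · intro h2
    by_contra h3
    rw [comm_ne_one e h3 (chi_not_rr e) (by rw [chi_rr]; decide)] at h1
    have h4 : j (zi m) = j (f1 * p * f1⁻¹ * p⁻¹) := by rw [← h1, ← hz]; rfl
    have h5 := congrFun (hj h4) m
    rw [zi, Pi.mulSingle_eq_same] at h5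
    change z = f1 m * p m * (f1 m)⁻¹ * (p m)⁻¹ at h5
    rw [comm_eq_one e h2 hp1, mul_inv_cancel_right, mul_inv_cancel] at h5
    exact z_ne_one h5
  · intro h2
    by_contra h3
    rw [comm_eq_one e h2 (chi_not_rr e), mul_inv_cancel_right, mul_inv_cancel, Pi.mulSingle_one, map_one, mul_one,
      mul_inv_cancel, ← map_one j] at h1
    have h5 := congrFun (hj h1) m
    change 1 = f1 m * p m * (f1 m)⁻¹ * (p m)⁻¹ at h5
    rw [comm_ne_one e h3 hp1 hp2] at h5
    exact z_ne_one h5.symm

namespace KD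

variable {P : Sylow 2 G} {C : Subgroup G} {j : (Fin n → D) →* G}

/-- the number of non central components can be reduced -/
theorem reduce (h : KD P C j) (hG : ∀ H : Subgroup G, H.index ≠ 2) {b : Bool} {i0 : Fin n} {f : Fin n → D}
    (hf : chi (!b) (f i0) = 1) (hf' : chi b (f i0) ≠ 1) :
    ∃ g f', g * j f * g⁻¹ = j f' ∧ (f' i0 = 1 ∨ f' i0 = z) ∧ ∀ m, m ≠ i0 → ((f' m = 1 ∨ f' m = z) ↔ (f m = 1 ∨ f m = z)) := by
  obtain ⟨k, k1, k2, kB, c, hc1, hc2, hc3, hc⟩ := h.exists_key hG b i0
  have hcomp : ∀ m, m ≠ i0 → ∀ e : Bool, ∃ p : Fin n → D, k * j (Pi.mulSingle m (rr e)) * k⁻¹ = j p ∧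
      chi (!e) (p m) = 1 ∧ chi e (p m) ≠ 1 := by
    intro m hm
    obtain ⟨p, hpB, hp⟩ := kB (Pi.mulSingle m (rr !b)) (by
      rw [mem_Bm, Pi.mulSingle_eq_of_ne (fun e => hm e.symm), map_one])
    obtain ⟨l, hl1, hl2, -⟩ := h.exists_image k2 hp.symm
    have hlm : l = m := by
      rw [k1 m hm] at hl1
      exact (zi_inj (h.inj hl1)).symm
    subst hlm
    have hpsq : p * p = 1 := by
      apply h.inj
      rw [map_mul, hp, map_one]
      have h2 : j (Pi.mulSingle l (rr !b)) * j (Pi.mulSingle l (rr !b)) = 1 := by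
        rw [← map_mul, Rm_sq (single_mem_Rm (β := fun _ => !b) (chi_not_rr (!b))), map_one]
      calc k * j (Pi.mulSingle l (rr !b)) * k⁻¹ * (k * j (Pi.mulSingle l (rr !b)) * k⁻¹)
          = k * (j (Pi.mulSingle l (rr !b)) * j (Pi.mulSingle l (rr !b))) * k⁻¹ := by group
        _ = 1 := by rw [h2]; group
    have hpb : chi b (p l) = 1 := mem_of_sq' b (congrFun hpsq l) hl2
    obtain ⟨q, hqR, hq⟩ := k2 (Pi.mulSingle l (rr b)) (single_mem_Rm (β := fun _ => b) (chi_not_rr b))
    have hqb : chi b (q l) ≠ 1 := by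
      intro h1
      have h2 : k * j (Pi.mulSingle l (rr b) * Pi.mulSingle l (rr !b) * (Pi.mulSingle l (rr b))⁻¹ *
          (Pi.mulSingle l (rr !b))⁻¹) * k⁻¹ = j (q * p * q⁻¹ * p⁻¹) := by
        simp only [map_mul, map_inv]
        rw [hq, hp]
        group
      rw [comm_single, Pi.mulSingle_eq_same] at h2
      rw [comm_rr] at h2
      have h4 : j (zi l) = j (q * p * q⁻¹ * p⁻¹) := by rw [← h2, ← k1 l hm]; rfl
      have h5 := congrFun (h.inj h4) l
      rw [zi, Pi.mulSingle_eq_same] at h5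
      change z = q l * p l * (q l)⁻¹ * (p l)⁻¹ at h5
      have h6 : q l * p l = p l * q l := by
        rcases eq_one_or_z' b h1 (hqR l) with h7 | h7
        · rw [h7, one_mul, mul_one]
        · rw [h7, z_comm]
      rw [h6, mul_inv_cancel_right, mul_inv_cancel] at h5
      exact z_ne_one h5
    intro e
    by_cases he : e = b
    · subst he
      exact ⟨q, hq.symm, hqR l, hqb⟩
    · have he' : e = !b := eq_not_of_ne he
      subst he'
      refine ⟨p, hp.symm, ?_, hl2⟩
      rw [Bool.not_not]; exact hpb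
  have hiff : ∀ f f1 : Fin n → D, k * j f * k⁻¹ = j f1 → ∀ m, m ≠ i0 →
      ((f1 m = 1 ∨ f1 m = z) ↔ (f m = 1 ∨ f m = z)) := by
    intro f f1 hff m hm
    obtain ⟨p, hp, hp1, hp2⟩ := hcomp m hm b
    obtain ⟨q, hq, hq1, hq2⟩ := hcomp m hm (!b)
    have h1 := comp_iff h.inj hp hp1 hp2 (k1 m hm) hff
    have h2 := comp_iff h.inj hq hq1 hq2 (k1 m hm) hff
    rw [Bool.not_not] at h2
    rw [central_iff b, central_iff b, h1, h2]
  obtain ⟨f1, hf1B, hf1⟩ := kB f hf
  by_cases h1 : chi b (f1 i0) = 1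
  · exact ⟨k, f1, hf1.symm, eq_one_or_z' b h1 hf1B, hiff f f1 hf1.symm⟩
  refine ⟨k * j (Pi.mulSingle i0 (rr !b)), f1 * c, ?_, ?_, ?_⟩
  · have h2 : Pi.mulSingle i0 (rr !b) * f * (Pi.mulSingle i0 (rr !b))⁻¹ = f * zi i0 := by
      funext m
      by_cases hm : m = i0
      · subst hm
        simp only [Pi.mul_apply, Pi.inv_apply, zi, Pi.mulSingle_eq_same]
        exact rr_conj b hf hf'
      · simp only [Pi.mul_apply, Pi.inv_apply, zi, Pi.mulSingle_eq_of_ne hm]
        group
    calc k * j (Pi.mulSingle i0 (rr !b)) * j f * (k * j (Pi.mulSingle i0 (rr !b)))⁻¹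
        = k * j (Pi.mulSingle i0 (rr !b) * f * (Pi.mulSingle i0 (rr !b))⁻¹) * k⁻¹ := by
          rw [map_mul, map_mul, map_inv]; group
      _ = (k * j f * k⁻¹) * (k * j (zi i0) * k⁻¹) := by rw [h2, map_mul]; group
      _ = j (f1 * c) := by rw [← hf1, hc, map_mul]
  · rw [Pi.mul_apply]
    apply eq_one_or_z' b
    · rw [map_mul, (Int.units_eq_one_or _).resolve_left h1, (Int.units_eq_one_or _).resolve_left hc2]; rfl
    · rw [map_mul, mem_Bm.1 hf1B, hc1, one_mul]
  · intro m hm
    rw [← hiff f f1 hf1.symm m hm, Pi.mul_apply]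
    rcases hc3 m hm with h2 | h2
    · rw [h2, mul_one]
    · rw [h2, central_iff b, central_iff b, map_mul, map_mul, chi_z, chi_z, mul_one, mul_one]

/-- every involution of `J` is conjugate to an element of the centre of `J` -/
theorem exists_central (h : KD P C j) (hG : ∀ H : Subgroup G, H.index ≠ 2) :
    ∀ (N : ℕ) (f : Fin n → D), f * f = 1 → (Finset.univ.filter (fun m => ¬ (f m = 1 ∨ f m = z))).card = N →
      ∃ g I, g * j f * g⁻¹ = j (zI I) := by
  intro N
  induction N using Nat.strong_induction_on with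
  | _ N ih =>
    intro f hf hN
    by_cases hall : ∀ m, f m = 1 ∨ f m = z
    · obtain ⟨I, hI⟩ := exists_zI hall
      exact ⟨1, I, by rw [hI]; group⟩
    push Not at hall
    obtain ⟨i0, hi1, hi2⟩ := hall
    have hsq : f i0 * f i0 = 1 := congrFun hf i0
    obtain ⟨b, hb1, hb2⟩ : ∃ b, chi (!b) (f i0) = 1 ∧ chi b (f i0) ≠ 1 := by
      clear hN ih hf
      generalize f i0 = x at *
      revert x; decide
    obtain ⟨g, f', hgf, h0, hm⟩ := h.reduce hG hb1 hb2
    have hf' : f' * f' = 1 := by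
      apply h.inj
      rw [map_mul, ← hgf, map_one]
      calc g * j f * g⁻¹ * (g * j f * g⁻¹) = g * j (f * f) * g⁻¹ := by rw [map_mul]; group
        _ = 1 := by rw [hf, map_one]; group
    have hlt : (Finset.univ.filter (fun m => ¬ (f' m = 1 ∨ f' m = z))).card < N := by
      rw [← hN]
      apply Finset.card_lt_card
      rw [Finset.ssubset_iff_of_subset]
      · refine ⟨i0, ?_, ?_⟩
        · rw [Finset.mem_filter]
          exact ⟨Finset.mem_univ _, by tauto⟩
        · rw [Finset.mem_filter]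
          tauto
      · intro m hmm
        rw [Finset.mem_filter] at hmm ⊢
        refine ⟨Finset.mem_univ _, ?_⟩
        by_cases hmi : m = i0
        · subst hmi
          tauto
        · rw [← hm m hmi]; exact hmm.2
    obtain ⟨g1, I, hI⟩ := ih _ hlt f' hf' rfl
    refine ⟨g1 * g, I, ?_⟩
    calc g1 * g * j f * (g1 * g)⁻¹ = g1 * (g * j f * g⁻¹) * g1⁻¹ := by group
      _ = _ := by rw [hgf, hI]

/-- every involution is conjugate to a product of the first `k` involutions `z_i` -/
theorem exists_conj (h : KD P C j) (hG : ∀ H : Subgroup G, H.index ≠ 2) {x : G} (hx : orderOf x = 2) :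
    ∃ (g : G) (k : Fin n), g * x * g⁻¹ = j (zI (Finset.Iic k)) := by
  have : Fact (Nat.Prime 2) := ⟨Nat.prime_two⟩
  have hxx : x * x = 1 := by rw [← pow_two, ← hx, pow_orderOf_eq_one]
  have hx1 : x ≠ 1 := by
    rintro rfl
    rw [orderOf_one] at hx
    omega
  have hp : IsPGroup 2 (zpowers x) := IsPGroup.of_card (n := 1) (by rw [Nat.card_zpowers, hx]; rfl)
  obtain ⟨Q, hQ⟩ := hp.exists_le_sylow
  obtain ⟨g0, hg0⟩ := MulAction.exists_smul_eq G Q P
  have h1 : g0 * x * g0⁻¹ ∈ (P : Subgroup G) := by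
    rw [← hg0, Sylow.coe_subgroup_smul, Subgroup.mem_smul_pointwise_iff_exists]
    exact ⟨x, hQ (mem_zpowers x), rfl⟩
  obtain ⟨g1, f, hf⟩ := h.inv _ h1 (by
    calc g0 * x * g0⁻¹ * (g0 * x * g0⁻¹) = g0 * (x * x) * g0⁻¹ := by group
      _ = 1 := by rw [hxx]; group)
  have hff : f * f = 1 := by
    apply h.inj
    rw [map_mul, hf, map_one]
    calc g1 * (g0 * x * g0⁻¹) * g1⁻¹ * (g1 * (g0 * x * g0⁻¹) * g1⁻¹) = g1 * g0 * (x * x) * g0⁻¹ * g1⁻¹ := by group
      _ = 1 := by rw [hxx]; group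
  obtain ⟨g2, I, hI⟩ := h.exists_central hG _ f hff rfl
  have hI0 : I.Nonempty := by
    rw [Finset.nonempty_iff_ne_empty]
    rintro rfl
    rw [zI_empty, map_one, hf] at hI
    apply hx1
    have h2 : g2 * (g1 * (g0 * x * g0⁻¹) * g1⁻¹) * g2⁻¹ = (g2 * g1 * g0) * x * (g2 * g1 * g0)⁻¹ := by group
    rw [h2] at hI
    have h3 : (g2 * g1 * g0) * x * (g2 * g1 * g0)⁻¹ = (g2 * g1 * g0) * 1 * (g2 * g1 * g0)⁻¹ := by rw [hI]; group
    exact mul_left_cancel (mul_right_cancel h3)
  have hIc : 1 ≤ I.card := hI0.card_pos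
  have hIn : I.card ≤ n := by
    have := Finset.card_le_univ I
    rwa [Fintype.card_fin] at this
  set k : Fin n := ⟨I.card - 1, by omega⟩ with hk
  have hck : (Finset.Iic k).card = I.card := by
    rw [Fin.card_Iic, hk]
    change I.card - 1 + 1 = I.card
    omega
  obtain ⟨σ, hσ⟩ := Equiv.Perm.exists_map_finset_eq (Finset.Iic k) I hck
  obtain ⟨w, -, hw⟩ := h.perm σ
  have h4 : (fun i => zI I (σ i)) = zI (Finset.Iic k) := by
    funext i
    rw [zI, zI]
    have h5 : σ i ∈ I ↔ i ∈ Finset.Iic k := by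
      rw [← hσ, Finset.mem_map_equiv, Equiv.symm_apply_apply]
    by_cases h6 : i ∈ Finset.Iic k
    · rw [if_pos h6, if_pos (h5.2 h6)]
    · rw [if_neg h6, if_neg (fun h7 => h6 (h5.1 h7))]
  refine ⟨w * g2 * g1 * g0, k, ?_⟩
  rw [← h4, ← hw, ← hI, hf]
  group

/-- **the number of classes of involutions** -/
theorem card_classes (h : KD P C j) (hG : ∀ H : Subgroup G, H.index ≠ 2) :
    Nat.card {c : ConjClasses G // ∃ x ∈ c.carrier, orderOf x = 2} = n := by
  have hord : ∀ k : Fin n, orderOf (j (zI (Finset.Iic k))) = 2 := by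
    intro k
    apply orderOf_eq_prime
    · rw [pow_two, ← map_mul, Rm_sq (zI_mem_Rm (fun _ => true) _), map_one]
    · intro h1
      rw [← map_one j] at h1
      have h2 := congrFun (h.inj h1) k
      rw [zI, if_pos (Finset.mem_Iic.2 le_rfl)] at h2
      exact z_ne_one h2
  have e : Fin n ≃ {c : ConjClasses G // ∃ x ∈ c.carrier, orderOf x = 2} := by
    refine Equiv.ofBijective (fun k => ⟨ConjClasses.mk (j (zI (Finset.Iic k))), _, ConjClasses.mem_carrier_mk, hord k⟩) ⟨?_, ?_⟩
    · intro k k' hkk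
      have h1 : ConjClasses.mk (j (zI (Finset.Iic k))) = ConjClasses.mk (j (zI (Finset.Iic k'))) :=
        congrArg Subtype.val hkk
      rw [ConjClasses.mk_eq_mk_iff_isConj, isConj_iff] at h1
      obtain ⟨g, hg⟩ := h1
      have h2 := h.card_eq_of_conj hg
      rw [Fin.card_Iic, Fin.card_Iic] at h2
      exact Fin.ext (by omega)
    · rintro ⟨c, x, hx, hx2⟩
      obtain ⟨g, k, hg⟩ := h.exists_conj hG hx2
      refine ⟨k, Subtype.ext ?_⟩
      change ConjClasses.mk (j (zI (Finset.Iic k))) = c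
      rw [ConjClasses.mem_carrier_iff_mk_eq] at hx
      rw [← hx, ConjClasses.mk_eq_mk_iff_isConj]
      exact (isConj_iff.2 ⟨g, hg⟩).symm
  rw [← Nat.card_congr e, Nat.card_fin]

end KD

end Cfsg.Agent.H244.Kondo
end

-- part: H244/Kondo/JW
section
/-!
# `D8 ^ n` in `2 wr Sym (Fin n × Bool)` (helper244, for S3191)
-/

set_option autoImplicit false

namespace Cfsg.Agent.H244.Kondo

open Equiv Equiv.Perm Subgroup Cfsg.Agent.H306.Kon

/-- the letters -/
abbrev La (n : ℕ) : Type := Fin n × Bool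

/-- does the element of `D` move the letters? -/
def ds : D → Bool
  | DihedralGroup.r i => i.val % 2 == 1
  | DihedralGroup.sr i => i.val % 2 == 1

/-- the vector of an element of `D` -/
def dv : D → Bool → ZMod 2
  | DihedralGroup.r i, b => if b then (if i.val = 1 ∨ i.val = 2 then 1 else 0) else (if i.val = 2 ∨ i.val = 3 then 1 else 0)
  | DihedralGroup.sr i, b => if b then (if i.val = 0 ∨ i.val = 3 then 1 else 0) else (if i.val = 2 ∨ i.val = 3 then 1 else 0)

theorem ds_one : ds 1 = false := by decide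
theorem dv_one (b : Bool) : dv 1 b = 0 := by revert b; decide
theorem ds_mul (x y : D) : ds (x * y) = xor (ds x) (ds y) := by revert x y; decide
theorem dv_mul (x y : D) (b : Bool) : dv (x * y) b = dv x b + dv y (xor b (ds x)) := by revert x y b; decide
theorem dv_inj {x y : D} (h1 : ∀ b, dv x b = dv y b) (h2 : ds x = ds y) : x = y := by
  revert x y; decide
theorem dv_surj (a b : ZMod 2) (e : Bool) : ∃ x, dv x false = a ∧ dv x true = b ∧ ds x = e := by
  revert a b e; decide
theorem dv_z (b : Bool) : dv z b = 1 := by revert b; decide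
theorem ds_z : ds z = false := by decide
theorem ds_eq_false {x : D} : ds x = false ↔ chi false x = 1 := by revert x; decide

/-- sign of an element of `ZMod 2` -/
def sgn (a : ZMod 2) : ℤˣ := if a = 0 then 1 else -1

theorem sgn_add (a b : ZMod 2) : sgn (a + b) = sgn a * sgn b := by revert a b; decide
theorem sgn_zero : sgn 0 = 1 := rfl
theorem sgn_dv (x : D) : sgn (dv x false) * sgn (dv x true) = chi true x := by revert x; decide

/-- the swap -/
def bx (e : Bool) : Perm Bool := if e then swap false true else 1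

theorem bx_apply (e b : Bool) : bx e b = xor b e := by revert e b; decide
theorem bx_mul (e f : Bool) : bx (xor e f) = bx e * bx f := by revert e f; decide
theorem sign_bx (x : D) : sign (bx (ds x)) = chi false x := by revert x; decide

variable {n : ℕ}

/-- the letter permutation of `f` -/
def sW (f : Fin n → D) : Perm (La n) := Equiv.prodCongrRight (fun i => bx (ds (f i)))

theorem sW_apply (f : Fin n → D) (i : Fin n) (b : Bool) : sW f (i, b) = (i, xor b (ds (f i))) := by
  change (i, bx (ds (f i)) b) = _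
  rw [bx_apply]

theorem sW_mul (f g : Fin n → D) : sW (f * g) = sW f * sW g := by
  apply Equiv.ext
  rintro ⟨i, b⟩
  rw [Perm.mul_apply, sW_apply, sW_apply, sW_apply, Pi.mul_apply, ds_mul]
  refine Prod.ext rfl ?_
  change (b ^^ (ds (f i) ^^ ds (g i))) = (b ^^ ds (g i) ^^ ds (f i))
  generalize ds (f i) = x; generalize ds (g i) = y
  revert b x y; decide

theorem sW_one : sW (1 : Fin n → D) = 1 := by
  apply Equiv.ext
  rintro ⟨i, b⟩
  rw [sW_apply, Pi.one_apply, ds_one, Bool.xor_false]; rfl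

theorem sW_inv_apply (f : Fin n → D) (i : Fin n) (b : Bool) : (sW f)⁻¹ (i, b) = (i, xor b (ds (f i))) := by
  rw [Perm.inv_eq_iff_eq, sW_apply, Bool.xor_assoc, Bool.xor_self, Bool.xor_false]

/-- the embedding -/
def jW : (Fin n → D) →* Wr (La n) where
  toFun f := ⟨fun p => dv (f p.1) p.2, sW f⟩
  map_one' := by
    apply Wr.ext
    · funext p
      exact dv_one _
    · exact sW_one
  map_mul' f g := by
    apply Wr.ext
    · funext p
      rcases p with ⟨i, b⟩
      change dv ((f * g) i) b = dv (f i) b + _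
      rw [Pi.mul_apply, dv_mul]
      change _ = dv (f i) b + (fun p : La n => dv (g p.1) p.2) ((sW f)⁻¹ (i, b))
      rw [sW_inv_apply]
    · exact sW_mul f g

@[simp] theorem jW_v (f : Fin n → D) (p : La n) : (jW f).v p = dv (f p.1) p.2 := rfl
@[simp] theorem jW_s (f : Fin n → D) : (jW f).s = sW f := rfl

theorem jW_injective : Function.Injective (jW : (Fin n → D) →* Wr (La n)) := by
  intro f g h
  funext i
  apply dv_inj
  · intro b
    exact congrFun (congrArg Wr.v h) (i, b)
  · have h1 := congrArg Wr.s h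
    rw [jW_s, jW_s] at h1
    have h2 := DFunLike.congr_fun h1 (i, false)
    rw [sW_apply, sW_apply, Bool.false_xor, Bool.false_xor] at h2
    exact congrArg Prod.snd h2

theorem jW_z : jW (fun _ : Fin n => z) = Wr.z (La n) := by
  apply Wr.ext
  · funext p
    exact dv_z _
  · apply Equiv.ext
    rintro ⟨i, b⟩
    rw [jW_s, sW_apply, ds_z, Bool.xor_false]; rfl

/-- the range of `jW` consists of the elements which preserve the blocks -/
theorem mem_range_jW {x : Wr (La n)} : x ∈ (jW : (Fin n → D) →* Wr (La n)).range ↔ ∀ p, (x.s p).1 = p.1 := by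
  constructor
  · rintro ⟨f, rfl⟩ ⟨i, b⟩
    rw [jW_s, sW_apply]
  · intro h
    have h0 : ∀ i : Fin n, ∃ y : D, dv y false = x.v (i, false) ∧ dv y true = x.v (i, true) ∧
        ds y = (x.s (i, false)).2 := fun i => dv_surj _ _ _
    choose f hf1 hf2 hf3 using h0
    refine ⟨f, ?_⟩
    apply Wr.ext
    · funext p
      rcases p with ⟨i, b⟩
      rw [jW_v]
      cases b
      · exact hf1 i
      · exact hf2 i
    · apply Equiv.ext
      rintro ⟨i, b⟩
      rw [jW_s, sW_apply, hf3]
      refine Prod.ext (h (i, b)).symm ?_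
      have h1 : x.s (i, false) ≠ x.s (i, true) := fun h => by
        have := x.s.injective h
        simp at this
      have h2 : (x.s (i, false)).2 ≠ (x.s (i, true)).2 := fun h2 =>
        h1 (Prod.ext ((h (i, false)).trans (h (i, true)).symm) h2)
      cases b
      · simp
      · change (true ^^ (x.s (i, false)).2) = (x.s (i, true)).2
        generalize (x.s (i, false)).2 = u at *
        generalize (x.s (i, true)).2 = w at *
        revert h2; revert u w; decide

/-- the intersection with the base group -/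
theorem jW_mem_E {f : Fin n → D} : jW f ∈ Wr.E (La n) ↔ f ∈ Rm (fun _ : Fin n => true) := by
  rw [Wr.mem_E, mem_Rm, jW_s]
  constructor
  · intro h i
    have h1 := DFunLike.congr_fun h (i, false)
    rw [sW_apply] at h1
    have h2 : (false ^^ ds (f i)) = false := congrArg Prod.snd h1
    rw [Bool.false_xor] at h2
    exact ds_eq_false.1 h2
  · intro h
    apply Equiv.ext
    rintro ⟨i, b⟩
    rw [sW_apply, ds_eq_false.2 (h i), Bool.xor_false]; rfl

/-- the normalizer of the range preserves `Rm true` -/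
theorem norm_Rm (x : Wr (La n)) {f f' : Fin n → D} (h : x * jW f * x⁻¹ = jW f') (hf : f ∈ Rm (fun _ : Fin n => true)) :
    f' ∈ Rm (fun _ : Fin n => true) := by
  rw [← jW_mem_E] at hf ⊢
  rw [← h]
  exact Subgroup.Normal.conj_mem inferInstance _ hf x

/-- the block permutations -/
def pW (σ : Perm (Fin n)) : Wr (La n) := Wr.sec (Equiv.prodCongrLeft (fun _ => σ⁻¹))

theorem pW_conj (σ : Perm (Fin n)) (f : Fin n → D) : pW σ * jW f * (pW σ)⁻¹ = jW (fun i => f (σ i)) := by
  have h1 : ∀ i b, (pW σ).s (i, b) = (σ⁻¹ i, b) := fun i b => rfl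
  have h2 : ∀ i b, (pW σ).s⁻¹ (i, b) = (σ i, b) := by
    intro i b
    rw [Perm.inv_eq_iff_eq, h1, ia]
  apply Wr.ext
  · funext p
    rcases p with ⟨i, b⟩
    rw [Wr.mul_v, Wr.mul_v, jW_v, jW_v, h2]
    change (0 : ZMod 2) + dv (f (σ i)) b + 0 = _
    rw [zero_add, add_zero]
  · apply Equiv.ext
    rintro ⟨i, b⟩
    rw [Wr.mul_s, Wr.mul_s, Wr.inv_s, Perm.mul_apply, Perm.mul_apply, h2, jW_s, jW_s, sW_apply, sW_apply, h1, ia]

/-- the first character -/
def chiT : Wr (La n) →* ℤˣ where
  toFun x := ∏ p, sgn (x.v p)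
  map_one' := by simp [sgn_zero]
  map_mul' x y := by
    simp only [Wr.mul_v, sgn_add, Finset.prod_mul_distrib]
    congr 1
    exact Equiv.prod_comp (x.s⁻¹ : Perm (La n)) (fun p => sgn (y.v p))

theorem chiT_jW (f : Fin n → D) : chiT (jW f) = ∏ i, chi true (f i) := by
  change ∏ p, sgn ((jW f).v p) = _
  rw [Fintype.prod_prod_type]
  apply Finset.prod_congr rfl
  intro i _
  rw [Fintype.prod_bool, jW_v, jW_v, mul_comm]
  exact sgn_dv (f i)

/-- the second character -/
def chiF : Wr (La n) →* ℤˣ := sign.comp Wr.pr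

theorem chiF_jW (f : Fin n → D) : chiF (jW f) = ∏ i, chi false (f i) := by
  change sign (sW f) = _
  rw [sW, sign_prodCongrRight]
  exact Finset.prod_congr rfl (fun i _ => sign_bx (f i))

theorem exists_chi (b : Bool) : ∃ χ : Wr (La n) →* ℤˣ, ∀ f, χ (jW f) = ∏ i, chi b (f i) := by
  cases b
  · exact ⟨chiF, chiF_jW⟩
  · exact ⟨chiT, chiT_jW⟩

/-- transport along a bijection of the letters -/
def Wr.congr {P P' : Type*} (e : P ≃ P') : Wr P ≃* Wr P' where
  toFun x := ⟨fun p => x.v (e.symm p), e.permCongr x.s⟩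
  invFun x := ⟨fun p => x.v (e p), e.symm.permCongr x.s⟩
  left_inv x := by
    apply Wr.ext
    · funext p; simp
    · apply Equiv.ext; intro p; simp
  right_inv x := by
    apply Wr.ext
    · funext p; simp
    · apply Equiv.ext; intro p; simp
  map_mul' x y := by
    apply Wr.ext
    · funext p
      simp only [Wr.mul_v]
      congr 2
      have h1 : (e.permCongr x.s)⁻¹ p = e (x.s⁻¹ (e.symm p)) := by
        apply (e.permCongr x.s).injective
        rw [ai, Equiv.permCongr_apply, Equiv.symm_apply_apply, ai, Equiv.apply_symm_apply]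
      rw [h1, Equiv.symm_apply_apply]
    · apply Equiv.ext; intro p; simp

theorem Wr.congr_z {P P' : Type*} (e : P ≃ P') : Wr.congr e (Wr.z P) = Wr.z P' := by
  apply Wr.ext
  · rfl
  · apply Equiv.ext; intro p; simp [Wr.congr, Wr.z]

/-- the centre of `Wr P` -/
theorem eq_z_of_central {P : Type*} [Nonempty P] [DecidableEq P] {x : Wr P} (h : ∀ y, x * y = y * x) (hx : x ≠ 1) :
    x = Wr.z P := by
  obtain ⟨p0⟩ := ‹Nonempty P›
  have h1 : x.s = 1 := by
    apply Equiv.ext
    intro p
    by_contra hne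
    rw [Perm.one_apply] at hne
    have h2 := Wr.conj_vec x (Pi.single p 1)
    rw [h, mul_inv_cancel_right] at h2
    have h3 := congrFun (Wr.vec_injective h2) (x.s p)
    rw [ia, Pi.single_eq_same, Pi.single_eq_of_ne hne] at h3
    exact absurd h3 (by decide)
  have h2 : ∀ p, x.v p = x.v p0 := by
    intro p
    have h3 := congrArg (fun y : Wr P => y.v p) (h (Wr.sec (swap p0 p)))
    simp only [Wr.mul_v, Wr.sec_v, Wr.sec_s, add_zero, zero_add] at h3
    rw [h3, Equiv.swap_inv, Equiv.swap_apply_right]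
  rcases (show x.v p0 = 0 ∨ x.v p0 = 1 by generalize x.v p0 = a; revert a; decide) with h3 | h3
  · exfalso
    apply hx
    apply Wr.ext
    · funext p
      rw [h2, h3]; rfl
    · exact h1
  · apply Wr.ext
    · funext p
      rw [h2, h3]; rfl
    · exact h1

end Cfsg.Agent.H244.Kondo
end

-- part: H244/Kondo/Blk
section
/-!
# The block group of `2 wr Sym (Fin n × Bool)` (helper244, for S3191)
-/

set_option autoImplicit false

namespace Cfsg.Agent.H244.Kondo

open Equiv Equiv.Perm Subgroup Cfsg.Agent.H306.Kon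

theorem mul4_lt_pow {m : ℕ} (h : 2 ≤ m) : 4 * m < 4 ^ m := by
  induction m, h using Nat.le_induction with
  | base => decide
  | succ m hm ih => rw [pow_succ]; omega

theorem mul4_le_pow {m : ℕ} (h : 1 ≤ m) : 4 * m ≤ 4 ^ m := by
  rcases Nat.lt_or_ge m 2 with h1 | h1
  · have : m = 1 := by omega
    subst this; decide
  · exact (mul4_lt_pow h1).le

/-- a group of order `4 ^ |I|` acting on `I` with "small" local groups acts trivially -/
theorem rank_lemma {A I : Type*} [Group A] [Finite A] [Fintype I] [MulAction A I] (K : I → Subgroup A)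
    (hK1 : ∀ i, K i ≤ MulAction.stabilizer A i) (hK2 : ∀ (a : A) i, K (a • i) = K i)
    (hK3 : ∀ a, (∀ i, a ∈ K i) → a = 1) (hK4 : ∀ i, (K i).relIndex (MulAction.stabilizer A i) ≤ 4)
    (hA : Nat.card A = 4 ^ Fintype.card I) : ∀ (a : A) (i : I), a • i = i := by
  classical
  by_contra hne
  push Not at hne
  obtain ⟨a0, i0, hai⟩ := hne
  let Ω := MulAction.orbitRel.Quotient A I
  have hf : Finite Ω := Quotient.finite _
  let _ : Fintype Ω := Fintype.ofFinite Ω
  have hinj : Function.Injective (fun (a : A) (ω : Ω) => (QuotientGroup.mk a : A ⧸ K ω.out)) := by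
    intro a b hab
    have h1 : ∀ ω : Ω, a⁻¹ * b ∈ K ω.out := fun ω => QuotientGroup.eq.1 (congrFun hab ω)
    have h2 : ∀ i, a⁻¹ * b ∈ K i := by
      intro i
      have h3 : (Quotient.mk'' i : Ω).out ∈ MulAction.orbit A i := by
        rw [← MulAction.orbitRel_apply]
        exact Quotient.exact (Quotient.out_eq (Quotient.mk'' i : Ω))
      obtain ⟨c, hc⟩ := h3
      have h4 := h1 (Quotient.mk'' i)
      rw [← hc] at h4
      exact (hK2 c i) ▸ h4
    exact inv_mul_eq_one.1 (hK3 _ h2)
  have hle : Nat.card A ≤ ∏ ω : Ω, (K ω.out).index := by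
    have h1 := Nat.card_le_card_of_injective _ hinj
    rw [Nat.card_pi] at h1
    exact h1
  have hm : ∀ ω : Ω, (K ω.out).index ≤ 4 * Nat.card (MulAction.orbit A ω.out) := by
    intro ω
    rw [← relIndex_mul_index (hK1 ω.out), MulAction.index_stabilizer]
    exact Nat.mul_le_mul_right _ (hK4 _)
  have hpos : ∀ ω : Ω, 1 ≤ Nat.card (MulAction.orbit A ω.out) := fun ω =>
    Nat.card_pos_iff.2 ⟨⟨⟨_, MulAction.mem_orbit_self _⟩⟩, inferInstance⟩
  have hsum : ∑ ω : Ω, Nat.card (MulAction.orbit A ω.out) = Fintype.card I := by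
    rw [← Nat.card_eq_fintype_card (α := I), Nat.card_congr (MulAction.selfEquivSigmaOrbits A I), Nat.card_sigma]
  have hlt : ∏ ω : Ω, 4 * Nat.card (MulAction.orbit A ω.out) < ∏ ω : Ω, 4 ^ Nat.card (MulAction.orbit A ω.out) := by
    refine Finset.prod_lt_prod (fun ω _ => by have := hpos ω; omega) (fun ω _ => mul4_le_pow (hpos ω))
      ⟨Quotient.mk'' i0, Finset.mem_univ _, mul4_lt_pow ?_⟩
    have h3 : (Quotient.mk'' i0 : Ω).out ∈ MulAction.orbit A i0 := by
      rw [← MulAction.orbitRel_apply]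
      exact Quotient.exact (Quotient.out_eq (Quotient.mk'' i0 : Ω))
    rw [MulAction.orbit_eq_iff.2 h3]
    have h4 : ({i0, a0 • i0} : Set I) ⊆ MulAction.orbit A i0 := by
      rintro x (rfl | rfl)
      · exact MulAction.mem_orbit_self _
      · exact MulAction.mem_orbit _ _
    have h5 := Set.ncard_le_ncard h4
    rw [Set.ncard_pair (Ne.symm hai)] at h5
    exact h5
  have := (hle.trans (Finset.prod_le_prod' fun ω _ => hm ω)).trans_lt hlt
  rw [Finset.prod_pow_eq_pow_sum, hsum, hA] at this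
  exact lt_irrefl _ this

variable {n : ℕ}

/-- the block swap -/
def s0 (n : ℕ) : Perm (La n) := Equiv.prodCongrRight (fun _ => swap false true)

theorem s0_apply (i : Fin n) (b : Bool) : s0 n (i, b) = (i, !b) := by
  change (i, swap false true b) = _
  cases b <;> simp

/-- the block group -/
def MW (n : ℕ) : Subgroup (Wr (La n)) := (centralizer {s0 n}).comap Wr.pr

theorem mem_MW {x : Wr (La n)} : x ∈ MW n ↔ ∀ i b, x.s (i, !b) = ((x.s (i, b)).1, !(x.s (i, b)).2) := by
  rw [MW, mem_comap, mem_centralizer_singleton_iff, Wr.pr_apply]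
  constructor
  · intro h i b
    have h1 := DFunLike.congr_fun h (i, b)
    rw [Perm.mul_apply, Perm.mul_apply, s0_apply] at h1
    rw [h1]
    generalize x.s (i, b) = y
    rcases y with ⟨k, c⟩
    exact s0_apply k c
  · intro h
    apply Equiv.ext
    rintro ⟨i, b⟩
    rw [Perm.mul_apply, Perm.mul_apply, s0_apply, h]
    generalize x.s (i, b) = y
    rcases y with ⟨k, c⟩
    exact (s0_apply k c).symm

theorem MW_fst {x : Wr (La n)} (hx : x ∈ MW n) (i : Fin n) (b c : Bool) : (x.s (i, b)).1 = (x.s (i, c)).1 := by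
  rw [mem_MW] at hx
  have h1 : x.s (i, true) = _ := hx i false
  have h2 : (x.s (i, true)).1 = (x.s (i, false)).1 := by rw [h1]
  cases b <;> cases c
  · rfl
  · exact h2.symm
  · exact h2
  · rfl

theorem range_le_MW : (jW : (Fin n → D) →* Wr (La n)).range ≤ MW n := by
  rintro _ ⟨f, rfl⟩
  rw [mem_MW]
  intro i b
  rw [jW_s, sW_apply, sW_apply]
  refine Prod.ext rfl ?_
  change (!b ^^ ds (f i)) = !(b ^^ ds (f i))
  generalize ds (f i) = e
  revert b e; decide

theorem range_conj_MW {x : Wr (La n)} (hx : x ∈ MW n) {y : Wr (La n)}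
    (hy : y ∈ (jW : (Fin n → D) →* Wr (La n)).range) : x * y * x⁻¹ ∈ (jW : (Fin n → D) →* Wr (La n)).range := by
  rw [mem_range_jW] at hy ⊢
  intro p
  rw [Wr.mul_s, Wr.mul_s, Wr.inv_s, Perm.mul_apply, Perm.mul_apply]
  have h1 := hy (x.s⁻¹ p)
  have h2 : ∀ q r : La n, q.1 = r.1 → (x.s q).1 = (x.s r).1 := by
    rintro ⟨i, b⟩ ⟨k, c⟩ h
    obtain rfl : i = k := h
    exact MW_fst hx _ _ _
  rw [h2 _ _ h1, ai]

theorem orderOf_s0 (hn : 1 ≤ n) : orderOf (s0 n) = 2 := by
  rw [orderOf_eq_prime_iff]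
  refine ⟨?_, fun h => ?_⟩
  · rw [pow_two]
    apply Equiv.ext
    rintro ⟨i, b⟩
    rw [Perm.mul_apply, s0_apply, s0_apply, Bool.not_not]; rfl
  · have h1 := DFunLike.congr_fun h ((⟨0, by omega⟩ : Fin n), false)
    rw [s0_apply] at h1
    have h2 : (!false) = false := congrArg Prod.snd h1
    exact absurd h2 (by decide)

theorem card_support_s0 : (s0 n).support.card = 2 * n := by
  have h1 : (s0 n).support = Finset.univ := by
    ext ⟨i, b⟩
    rw [mem_support, s0_apply]
    refine ⟨fun _ => Finset.mem_univ _, fun _ h => ?_⟩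
    have h2 : (!b) = b := congrArg Prod.snd h
    cases b <;> exact absurd h2 (by decide)
  rw [h1, Finset.card_univ, Fintype.card_prod, Fintype.card_fin, Fintype.card_bool, mul_comm]

open Nat in
theorem odd_doubleFactorial (m : ℕ) : Odd (2 * m + 1)‼ := by
  induction m with
  | zero => decide
  | succ m ih =>
    have : 2 * (m + 1) + 1 = (2 * m + 1) + 2 := by ring
    rw [this, doubleFactorial_add_two]
    exact Odd.mul (by rw [show 2 * m + 1 + 2 = 2 * (m + 1) + 1 by ring]; exact odd_two_mul_add_one _) ih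

open Nat in
theorem MW_index (hn : 1 ≤ n) : Odd (MW n).index := by
  have hsurj : Function.Surjective (Wr.pr : Wr (La n) →* Perm (La n)) := fun s => ⟨Wr.sec s, rfl⟩
  rw [MW, index_comap_of_surjective _ hsurj]
  have h1 := (centralizer ({s0 n} : Set (Perm (La n)))).card_mul_index
  have h2 := nat_card_centralizer (s0 n)
  rw [cycleType_of_order_two (orderOf_s0 hn) card_support_s0] at h2
  have h3 : Nat.card (centralizer ({s0 n} : Set (Perm (La n)))) = 2 ^ n * n ! := by
    rw [h2]
    have hn0 : n ≠ 0 := by omega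
    simp only [Multiset.sum_replicate, Multiset.prod_replicate, Multiset.toFinset_replicate, hn0,
      if_false, Finset.prod_singleton, Multiset.count_replicate_self, Fintype.card_prod, Fintype.card_fin,
      Fintype.card_bool, smul_eq_mul, Nat.sub_self, Nat.factorial_zero, one_mul]
  obtain ⟨m, rfl⟩ : ∃ m, n = m + 1 := ⟨n - 1, by omega⟩
  rw [h3, Nat.card_eq_fintype_card, Fintype.card_perm, Fintype.card_prod, Fintype.card_fin, Fintype.card_bool,
    show (m + 1) * 2 = (2 * m + 1) + 1 by ring, factorial_eq_mul_doubleFactorial (2 * m + 1),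
    show 2 * m + 1 + 1 = 2 * (m + 1) by ring, doubleFactorial_two_mul] at h1
  have h4 := Nat.eq_of_mul_eq_mul_left (by positivity) h1
  rw [h4]
  exact odd_doubleFactorial m

section rank

variable (A : Subgroup (Wr (La n))) (hAM : A ≤ MW n)

/-- the action on the blocks -/
@[reducible] def blkAct : MulAction A (Fin n) where
  smul a i := ((a : Wr (La n)).s (i, false)).1
  one_smul i := rfl
  mul_smul a b i := by
    change ((a : Wr (La n)).s ((b : Wr (La n)).s (i, false))).1 = ((a : Wr (La n)).s (((b : Wr (La n)).s (i, false)).1, false)).1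
    generalize (b : Wr (La n)).s (i, false) = y
    rcases y with ⟨k, c⟩
    exact MW_fst (hAM a.2) _ _ _

/-- the kernel on a block -/
def Kb (i : Fin n) : Subgroup A where
  carrier := {k | ∀ b c, Wr.act (k : Wr (La n)) ((i, b), c) = ((i, b), c)}
  one_mem' := fun b c => by simp
  mul_mem' := by
    intro x y hx hy b c
    rw [Subgroup.coe_mul, map_mul, Perm.mul_apply, hy, hx]
  inv_mem' := by
    intro x hx b c
    rw [Subgroup.coe_inv, map_inv, Perm.inv_eq_iff_eq, hx]

theorem mem_Kb {i : Fin n} {k : A} : k ∈ Kb A i ↔ ∀ b c, Wr.act (k : Wr (La n)) ((i, b), c) = ((i, b), c) := Iff.rfl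

end rank

theorem sq_letter {x : Wr (La n)} (hx : x * x = 1) (p : La n) : x.s (x.s p) = p := by
  have h1 := congrArg Wr.s hx
  rw [Wr.mul_s, Wr.one_s] at h1
  exact DFunLike.congr_fun h1 p

theorem sq_vec {x : Wr (La n)} (hx : x * x = 1) (p : La n) : x.v p = x.v (x.s p) := by
  have h1 := congrArg (fun y : Wr (La n) => y.v p) hx
  simp only [Wr.mul_v, Wr.one_v] at h1
  have h2 : x.s⁻¹ p = x.s p := by rw [Perm.inv_eq_iff_eq, sq_letter hx]
  rw [h2] at h1
  generalize x.v p = a at *
  generalize x.v (x.s p) = b at *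
  revert h1; revert a b; decide

theorem card_six : Nat.card {t : Bool × ZMod 2 × ZMod 2 // t.1 = true → t.2.1 = t.2.2} = 6 := by
  rw [Nat.card_eq_fintype_card]; decide

/-- the local index is at most 4 -/
theorem relIndex_le {A : Subgroup (Wr (La n))} (hAM : A ≤ MW n) (hA : ∀ a ∈ A, a * a = 1) {N : ℕ}
    (hc : Nat.card A = 2 ^ N) (S : Subgroup A) (i : Fin n) (hS : ∀ a ∈ S, ((a : Wr (La n)).s (i, false)).1 = i) :
    (Kb A i).relIndex S ≤ 4 := by
  have hfin : Finite A := Nat.finite_of_card_ne_zero (by rw [hc]; positivity)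
  let φ : S → {t : Bool × ZMod 2 × ZMod 2 // t.1 = true → t.2.1 = t.2.2} := fun a =>
    ⟨((((a : A) : Wr (La n)).s (i, false)).2, ((a : A) : Wr (La n)).v (i, false), ((a : A) : Wr (La n)).v (i, true)), by
      intro h
      change ((a : A) : Wr (La n)).v (i, false) = ((a : A) : Wr (La n)).v (i, true)
      rw [sq_vec (hA _ (a : A).2) (i, false)]
      congr 1
      exact Prod.ext (hS _ a.2) h⟩
  have hφ : ∀ a b : S, φ a = φ b → a⁻¹ * b ∈ (Kb A i).subgroupOf S := by
    intro a b h
    have h1 := congrArg Subtype.val h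
    have h2 : (((a : A) : Wr (La n)).s (i, false)).2 = (((b : A) : Wr (La n)).s (i, false)).2 := congrArg Prod.fst h1
    have h3 : ((a : A) : Wr (La n)).v (i, false) = ((b : A) : Wr (La n)).v (i, false) :=
      congrArg (fun t => t.2.1) h1
    have h4 : ((a : A) : Wr (La n)).v (i, true) = ((b : A) : Wr (La n)).v (i, true) :=
      congrArg (fun t => t.2.2) h1
    have ha := hS _ a.2
    have hb := hS _ b.2
    have ha' := mem_MW.1 (hAM (a : A).2) i false
    have hb' := mem_MW.1 (hAM (b : A).2) i false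
    have h5 : ∀ c : Bool, ((a : A) : Wr (La n)).s (i, c) = ((b : A) : Wr (La n)).s (i, c) := by
      have h6 : ((a : A) : Wr (La n)).s (i, false) = ((b : A) : Wr (La n)).s (i, false) := Prod.ext (ha.trans hb.symm) h2
      intro c
      cases c
      · exact h6
      · change ((a : A) : Wr (La n)).s (i, !false) = ((b : A) : Wr (La n)).s (i, !false)
        rw [ha', hb', h6]
    have h7 : ∀ c : Bool, (((b : A) : Wr (La n)).s (i, c)).1 = i := by
      intro c
      rw [MW_fst (hAM (b : A).2) i c false, hb]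
    have h8 : ∀ c : Bool, ((a : A) : Wr (La n)).v (i, c) = ((b : A) : Wr (La n)).v (i, c) := by
      intro c
      cases c
      · exact h3
      · exact h4
    rw [mem_subgroupOf, mem_Kb]
    intro c d
    change Wr.act (((a : A) : Wr (La n))⁻¹ * ((b : A) : Wr (La n))) ((i, c), d) = _
    rw [map_mul, map_inv, Perm.mul_apply, Perm.inv_eq_iff_eq, Wr.act_apply, Wr.act_apply, h5]
    have h9 : ((b : A) : Wr (La n)).s (i, c) = (i, (((b : A) : Wr (La n)).s (i, c)).2) := Prod.ext (h7 c) rfl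
    rw [h9, h8]
  have h6 : (Kb A i).relIndex S ≤ 6 := by
    rw [relIndex, index, ← card_six]
    refine Nat.card_le_card_of_injective (fun q => φ q.out) ?_
    intro q r h
    have h1 := hφ _ _ h
    rw [← QuotientGroup.eq] at h1
    rwa [QuotientGroup.out_eq', QuotientGroup.out_eq'] at h1
  have hd : (Kb A i).relIndex S ∣ 2 ^ N := by
    rw [← hc]
    exact (relIndex_dvd_card _ _).trans (card_subgroup_dvd_card S)
  obtain ⟨k, -, hk⟩ := (Nat.dvd_prime_pow Nat.prime_two).1 hd
  rw [hk] at h6 ⊢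
  have : k < 3 := by
    by_contra h
    have : 2 ^ 3 ≤ 2 ^ k := Nat.pow_le_pow_right (by norm_num) (by omega)
    omega
  calc 2 ^ k ≤ 2 ^ 2 := Nat.pow_le_pow_right (by norm_num) (by omega)
    _ = 4 := rfl

/-- **Elementary abelian subgroups of order `4 ^ n` of the block group preserve the blocks.** -/
theorem rank_W {A : Subgroup (Wr (La n))} (hAM : A ≤ MW n) (hA : ∀ a ∈ A, a * a = 1) (hc : Nat.card A = 4 ^ n) :
    A ≤ (jW : (Fin n → D) →* Wr (La n)).range := by
  let _ := blkAct A hAM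
  have hsm : ∀ (a : A) (i : Fin n), a • i = ((a : Wr (La n)).s (i, false)).1 := fun _ _ => rfl
  have hcomm : ∀ a ∈ A, ∀ b ∈ A, a * b = b * a := by
    intro a ha b hb
    have h1 := hA (a * b) (A.mul_mem ha hb)
    have h2 := hA a ha
    have h3 := hA b hb
    calc a * b = a * b * ((b * a) * (b * a)) := by rw [hA (b * a) (A.mul_mem hb ha), mul_one]
      _ = a * (b * b) * a * (b * a) := by group
      _ = b * a := by rw [h3, mul_one, h2, one_mul]
  have hfin : Finite A := Nat.finite_of_card_ne_zero (by rw [hc]; positivity)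
  have hle : ∀ (a : A) (i : Fin n), Kb A i ≤ Kb A (a • i) := by
    intro a i k hk
    rw [mem_Kb] at hk ⊢
    intro b c
    have h1 : ∃ (b' : Bool) (c' : ZMod 2), Wr.act (a : Wr (La n)) ((i, b'), c') = ((a • i, b), c) := by
      have h2 : ∃ b', (a : Wr (La n)).s (i, b') = (a • i, b) := by
        have h3 := mem_MW.1 (hAM a.2) i false
        by_cases h4 : ((a : Wr (La n)).s (i, false)).2 = b
        · exact ⟨false, Prod.ext rfl h4⟩
        · refine ⟨!false, ?_⟩
          rw [h3]
          refine Prod.ext rfl ?_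
          have h5 : ∀ e b : Bool, e ≠ b → (!e) = b := by decide
          exact h5 _ _ h4
      obtain ⟨b', hb'⟩ := h2
      refine ⟨b', c + (a : Wr (La n)).v ((a : Wr (La n)).s (i, b')), ?_⟩
      rw [Wr.act_apply, add_assoc, Wr.add_self, add_zero, hb']
    obtain ⟨b', c', h2⟩ := h1
    rw [← h2, ← Perm.mul_apply, ← map_mul, hcomm _ k.2 _ a.2, map_mul, Perm.mul_apply, hk]
  have key := rank_lemma (A := A) (I := Fin n) (Kb A) ?_ ?_ ?_ ?_ (by rw [hc, Fintype.card_fin])
  · intro a ha
    rw [mem_range_jW]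
    rintro ⟨i, b⟩
    rw [MW_fst (hAM ha) i b false]
    exact key ⟨a, ha⟩ i
  · intro i k hk
    rw [MulAction.mem_stabilizer_iff, hsm]
    have h1 := hk false 0
    rw [Wr.act_apply] at h1
    exact congrArg (fun t => t.1.1) h1
  · intro a i
    refine le_antisymm ?_ (hle a i)
    have h1 := hle a⁻¹ (a • i)
    rwa [inv_smul_smul] at h1
  · intro a ha
    apply Subtype.ext
    apply Wr.act_injective
    apply Equiv.ext
    rintro ⟨⟨i, b⟩, c⟩
    rw [ha i b c]
    simp
  · intro i
    refine relIndex_le hAM hA (N := 2 * n) (by rw [hc, pow_mul]; rfl) _ i ?_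
    intro a ha
    exact ha

/-- the standard involution with `k` swaps -/
def tk (n k : ℕ) : Perm (La n) := Equiv.prodCongrRight (fun i => if i.val < k then swap false true else 1)

theorem tk_apply (k : ℕ) (i : Fin n) (b : Bool) : tk n k (i, b) = (i, if i.val < k then !b else b) := by
  change (i, (if i.val < k then swap false true else 1 : Perm Bool) b) = _
  refine Prod.ext rfl ?_
  change (if i.val < k then swap false true else 1 : Perm Bool) b = _
  split_ifs
  · cases b <;> simp
  · rfl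

theorem tk_support {k : ℕ} (hk : k ≤ n) : (tk n k).support.card = 2 * k := by
  have h1 : (tk n k).support = (Finset.univ.filter (fun i : Fin n => i.val < k)) ×ˢ Finset.univ := by
    ext ⟨i, b⟩
    rw [mem_support, tk_apply, Finset.mem_product, Finset.mem_filter]
    by_cases h : i.val < k
    · simp only [h, if_true, Finset.mem_univ, and_true, iff_true]
      intro h2
      have h3 : (!b) = b := congrArg Prod.snd h2
      cases b <;> exact absurd h3 (by decide)
    · simp [h]
  rw [h1, Finset.card_product, Fin.card_filter_val_lt, Finset.card_univ, Fintype.card_bool, min_eq_right hk, mul_comm]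

theorem tk_sq (k : ℕ) : tk n k * tk n k = 1 := by
  apply Equiv.ext
  rintro ⟨i, b⟩
  rw [Perm.mul_apply, tk_apply, tk_apply]
  by_cases h : i.val < k
  · simp [h]
  · simp [h]

/-- **Involutions of `W` are conjugate to block preserving ones.** -/
theorem inv_W {x : Wr (La n)} (hx : x * x = 1) : ∃ g, g * x * g⁻¹ ∈ (jW : (Fin n → D) →* Wr (La n)).range := by
  by_cases hs : x.s = 1
  · refine ⟨1, ?_⟩
    rw [one_mul, inv_one, mul_one, mem_range_jW]
    intro p
    rw [hs]; rfl
  have ho : orderOf x.s = 2 := by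
    rw [orderOf_eq_prime_iff]
    refine ⟨?_, hs⟩
    rw [pow_two]
    exact congrArg Wr.s hx
  obtain ⟨m, hm⟩ := cycleType_prime_order (σ := x.s) (by rw [ho]; exact Nat.prime_two)
  rw [ho] at hm
  have h1 := sum_cycleType x.s
  rw [hm, Multiset.sum_replicate, smul_eq_mul] at h1
  have h2 : x.s.support.card ≤ n * 2 := by
    refine (Finset.card_le_univ _).trans ?_
    rw [Fintype.card_prod, Fintype.card_fin, Fintype.card_bool]
  have hk : m + 1 ≤ n := by omega
  have ht : orderOf (tk n (m + 1)) = 2 := by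
    rw [orderOf_eq_prime_iff]
    refine ⟨by rw [pow_two, tk_sq], fun h => ?_⟩
    have h3 := tk_support hk
    rw [h] at h3
    simp at h3
  obtain ⟨f, hf⟩ := exists_equiv_conj (Equiv.refl (La n)) (σ := x.s) (τ := tk n (m + 1)) (k := m + 1) ho ht (by omega)
    (tk_support hk)
  refine ⟨Wr.sec f, ?_⟩
  rw [mem_range_jW]
  intro p
  rw [Wr.mul_s, Wr.mul_s, Wr.inv_s, Wr.sec_s, Perm.mul_apply, Perm.mul_apply]
  have h3 : f (x.s (f⁻¹ p)) = tk n (m + 1) p := by
    rw [hf]
    congr 1
    exact f.apply_symm_apply p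
  rw [h3]
  rcases p with ⟨i, b⟩
  rw [tk_apply]

end Cfsg.Agent.H244.Kondo
end

-- part: H244/Kondo/Final
section
/-!
# Classes of involutions from a 2-central involution with centralizer `O(C).(2 wr Sym(2n))` (helper244, for S3191)
-/

set_option autoImplicit false

namespace Cfsg.Agent.H244.Kondo

open Subgroup Cfsg.Agent.H306.Kon

variable {G : Type*} [Group G] [Finite G] {n : ℕ}

theorem isPGroup_pow_D : IsPGroup 2 (Fin n → D) := by
  apply IsPGroup.of_card (n := 3 * n)
  rw [Nat.card_eq_fintype_card, Fintype.card_fun, Fintype.card_fin, pow_mul]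
  congr 1

theorem exists_KD (hn : 1 ≤ n) {t : G} (S : Sylow 2 G) (hS : (S : Subgroup G) ≤ centralizer {t}) (htS : t ∈ (S : Subgroup G))
    (π : centralizer ({t} : Set G) →* Wr (La n)) (hπ : Function.Surjective π) (hker : Odd (Nat.card π.ker))
    (ht : ∀ h, π ⟨t, h⟩ = Wr.z (La n)) :
    ∃ (P : Sylow 2 G) (j : (Fin n → D) →* G), KD P (centralizer {t}) j := by
  have : Fact (Nat.Prime 2) := ⟨Nat.prime_two⟩
  obtain ⟨P0, j0, h1, h2, h3⟩ := exists_lift hπ hker (jW_injective (n := n)) isPGroup_pow_D (MW_index hn)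
    (fun x hx y hy => range_conj_MW hx hy)
  have hp : IsPGroup 2 ((P0 : Subgroup (centralizer ({t} : Set G))).map (centralizer ({t} : Set G)).subtype) := P0.2.map _
  have hidx : ¬ 2 ∣ ((P0 : Subgroup (centralizer ({t} : Set G))).map (centralizer ({t} : Set G)).subtype).index := by
    rw [index_map_subtype]
    refine Nat.Prime.not_dvd_mul Nat.prime_two P0.not_dvd_index ?_
    intro h
    exact S.not_dvd_index (h.trans (index_dvd_of_le hS))
  have hPC : ((hp.toSylow hidx : Sylow 2 G) : Subgroup G) ≤ centralizer {t} := by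
    rw [IsPGroup.toSylow_coe]
    exact map_subtype_le _
  have hPmem : ∀ x : centralizer ({t} : Set G), (x : G) ∈ ((hp.toSylow hidx : Sylow 2 G) : Subgroup G) ↔ x ∈ (P0 : Subgroup _) := by
    intro x
    rw [IsPGroup.toSylow_coe]
    constructor
    · rintro ⟨y, hy, hyx⟩
      rwa [← Subtype.ext hyx]
    · intro hx
      exact ⟨x, hx, rfl⟩
  -- elements of `P0` are determined by their image
  have huniq : ∀ x ∈ (P0 : Subgroup (centralizer ({t} : Set G))), ∀ f, π x = jW f → x = j0 f := by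
    intro x hx f hf
    have h4 := eq_one_of_odd hker P0.2 ((P0 : Subgroup (centralizer ({t} : Set G))).mul_mem hx
      ((P0 : Subgroup (centralizer ({t} : Set G))).inv_mem (h2 f))) (by rw [map_mul, map_inv, h1, hf, mul_inv_cancel])
    exact mul_inv_eq_one.1 h4
  have htC : t ∈ centralizer ({t} : Set G) := hS htS
  have htz : j0 (fun _ => z) = ⟨t, htC⟩ := by
    -- `t` is in every Sylow 2-subgroup of its centralizer
    have h4 : (⟨t, htC⟩ : centralizer ({t} : Set G)) ∈ (P0 : Subgroup (centralizer ({t} : Set G))) := by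
      obtain ⟨k, hk⟩ := S.2 ⟨t, htS⟩
      have h5 : t ^ 2 ^ k = 1 := congrArg Subtype.val hk
      have h6 : IsPGroup 2 (zpowers (⟨t, htC⟩ : centralizer ({t} : Set G))) := by
        have h7 : orderOf (⟨t, htC⟩ : centralizer ({t} : Set G)) ∣ 2 ^ k := by
          apply orderOf_dvd_of_pow_eq_one
          exact Subtype.ext h5
        obtain ⟨m, -, hm⟩ := (Nat.dvd_prime_pow Nat.prime_two).1 h7
        exact IsPGroup.of_card (n := m) (by rw [Nat.card_zpowers, hm])
      have h8 : (zpowers (⟨t, htC⟩ : centralizer ({t} : Set G))).Normal := by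
        constructor
        rintro _ ⟨m, rfl⟩ g
        refine ⟨m, ?_⟩
        have h9 : Commute g (⟨t, htC⟩ : centralizer ({t} : Set G)) :=
          Subtype.ext (mem_centralizer_singleton_iff.1 g.2)
        change _ = g * (⟨t, htC⟩ : centralizer ({t} : Set G)) ^ m * g⁻¹
        rw [(h9.zpow_right m).eq, mul_inv_cancel_right]
      exact (h6.le_sylow_of_normal P0) (mem_zpowers _)
    exact (huniq _ h4 _ (by rw [ht, jW_z])).symm
  have hconj : ∀ c : centralizer ({t} : Set G), (∀ f, π c * jW f * (π c)⁻¹ ∈ (jW : (Fin n → D) →* Wr (La n)).range) →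
      ∃ k, π k = 1 ∧ ∀ f, (k * c) * j0 f * (k * c)⁻¹ ∈ j0.range := by
    intro c hc
    have hR : IsPGroup 2 (j0.range.map (MulAut.conj c).toMonoidHom) :=
      ((isPGroup_pow_D (n := n)).of_surjective j0.rangeRestrict j0.rangeRestrict_surjective).map _
    obtain ⟨k, hk1, hk2⟩ := exists_kernel_conj hker (jW_injective (n := n)) isPGroup_pow_D h1 hR (by
      rintro _ ⟨_, ⟨f, rfl⟩, rfl⟩
      change π (c * j0 f * c⁻¹) ∈ _
      rw [map_mul, map_mul, map_inv, h1]
      exact hc f)
    refine ⟨k, hk1, fun f => ?_⟩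
    have h4 := hk2 (c * j0 f * c⁻¹) ⟨j0 f, ⟨f, rfl⟩, rfl⟩
    have h5 : k * c * j0 f * (k * c)⁻¹ = k * (c * j0 f * c⁻¹) * k⁻¹ := by group
    rwa [h5]
  refine ⟨hp.toSylow hidx, (centralizer ({t} : Set G)).subtype.comp j0, ?_⟩
  exact
    { inj := by
        intro f g h
        apply jW_injective
        rw [← h1, ← h1]
        congr 1
        exact Subtype.ext h
      le := fun f => (hPmem _).2 (h2 f)
      leC := hPC
      cent := by
        intro g hg
        rw [mem_centralizer_singleton_iff]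
        have h4 : ((centralizer ({t} : Set G)).subtype.comp j0) (fun _ => z) = t := congrArg Subtype.val htz
        rw [h4, mul_inv_eq_iff_eq_mul] at hg
        exact hg
      rank := by
        intro A hAP hA hc
        have hAC : A ≤ centralizer {t} := hAP.trans hPC
        have hinj : Function.Injective (π.comp (inclusion hAC)) := by
          rw [injective_iff_map_eq_one]
          intro a ha
          have h4 := eq_one_of_odd hker P0.2 (x := inclusion hAC a) ((hPmem _).1 (hAP a.2)) ha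
          have h5 : ((inclusion hAC a : centralizer ({t} : Set G)) : G) = ((1 : centralizer ({t} : Set G)) : G) :=
            congrArg Subtype.val h4
          exact Subtype.ext h5
        have h4 := rank_W (A := (π.comp (inclusion hAC)).range) (n := n) ?_ ?_ ?_
        · intro a ha
          obtain ⟨f, hf⟩ := h4 ⟨⟨a, ha⟩, rfl⟩
          refine ⟨f, ?_⟩
          have h5 := huniq (inclusion hAC ⟨a, ha⟩) ((hPmem _).1 (hAP ha)) f hf.symm
          exact (congrArg Subtype.val h5).symm
        · rintro _ ⟨a, rfl⟩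
          exact h3 _ ((hPmem _).1 (hAP a.2))
        · rintro _ ⟨a, rfl⟩
          rw [← map_mul, show a * a = 1 from Subtype.ext (hA _ a.2), map_one]
        · rw [← hc]
          exact (Nat.card_congr (MonoidHom.ofInjective hinj).toEquiv).symm
      norm := by
        intro g hg hn f hf
        obtain ⟨f', hf'⟩ := hn f
        refine ⟨f', ?_, hf'⟩
        have h4 : j0 f' = ⟨g, hg⟩ * j0 f * ⟨g, hg⟩⁻¹ := Subtype.ext hf'
        have h5 := congrArg π h4
        rw [map_mul, map_mul, map_inv, h1, h1] at h5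
        exact norm_Rm _ h5.symm hf
      perm := by
        intro σ
        obtain ⟨c, hc⟩ := hπ (pW σ)
        have h4 : ∀ f, π c * jW f * (π c)⁻¹ = jW (fun i => f (σ i)) := fun f => by rw [hc]; exact pW_conj σ f
        obtain ⟨k, hk1, hk2⟩ := hconj c (fun f => by rw [h4]; exact ⟨_, rfl⟩)
        refine ⟨((k * c : centralizer ({t} : Set G)) : G), (k * c).2, fun f => ?_⟩
        obtain ⟨f', hf'⟩ := hk2 f
        have h5 := congrArg π hf'
        rw [map_mul, map_mul, map_inv, map_mul, h1, h1, hk1, one_mul, h4] at h5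
        have h6 := jW_injective h5
        rw [h6] at hf'
        exact (congrArg Subtype.val hf').symm
      ch := by
        intro b
        obtain ⟨χ, hχ⟩ := exists_chi (n := n) b
        refine ⟨χ.comp π, fun f => ?_⟩
        rw [← hχ, ← h1]
        rfl
      inv := by
        intro x hx hxx
        have hxC := hPC hx
        obtain ⟨q, hq⟩ := inv_W (x := π ⟨x, hxC⟩) (by rw [← map_mul, show (⟨x, hxC⟩ : centralizer ({t} : Set G)) * ⟨x, hxC⟩ = 1 from Subtype.ext hxx, map_one])
        obtain ⟨c, rfl⟩ := hπ q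
        have h4 : IsPGroup 2 (zpowers (c * ⟨x, hxC⟩ * c⁻¹)) := by
          have h7 : orderOf (c * ⟨x, hxC⟩ * c⁻¹) ∣ 2 ^ 1 := by
            apply orderOf_dvd_of_pow_eq_one
            rw [pow_one, pow_two]
            calc c * ⟨x, hxC⟩ * c⁻¹ * (c * ⟨x, hxC⟩ * c⁻¹) = c * (⟨x, hxC⟩ * ⟨x, hxC⟩) * c⁻¹ := by group
              _ = 1 := by
                rw [show (⟨x, hxC⟩ : centralizer ({t} : Set G)) * ⟨x, hxC⟩ = 1 from Subtype.ext hxx]; group
          obtain ⟨m, -, hm⟩ := (Nat.dvd_prime_pow Nat.prime_two).1 h7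
          exact IsPGroup.of_card (n := m) (by rw [Nat.card_zpowers, hm])
        obtain ⟨k, hk1, hk2⟩ := exists_kernel_conj hker (jW_injective (n := n)) isPGroup_pow_D h1 h4 (by
          rintro _ ⟨m, rfl⟩
          change π ((c * ⟨x, hxC⟩ * c⁻¹) ^ m) ∈ _
          rw [map_zpow, map_mul, map_mul, map_inv]
          exact Subgroup.zpow_mem _ hq m)
        obtain ⟨f, hf⟩ := hk2 _ (mem_zpowers _)
        refine ⟨((k * c : centralizer ({t} : Set G)) : G), f, ?_⟩
        have h5 := congrArg Subtype.val hf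
        change ((j0 f : centralizer ({t} : Set G)) : G) = _
        rw [h5]
        change (k : G) * ((c : G) * x * (c : G)⁻¹) * (k : G)⁻¹ = (k : G) * (c : G) * x * ((k : G) * (c : G))⁻¹
        group }

/-- **Classes of involutions.** -/
theorem main (hn : 1 ≤ n) (hG : ∀ H : Subgroup G, H.index ≠ 2) {t : G} (S : Sylow 2 G)
    (hS : (S : Subgroup G) ≤ centralizer {t}) (htS : t ∈ (S : Subgroup G))
    (π : centralizer ({t} : Set G) →* Wr (La n)) (hπ : Function.Surjective π) (hker : Odd (Nat.card π.ker))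
    (ht : ∀ h, π ⟨t, h⟩ = Wr.z (La n)) :
    Nat.card {c : ConjClasses G // ∃ x ∈ c.carrier, orderOf x = 2} = n := by
  obtain ⟨P, j, h⟩ := exists_KD hn S hS htS π hπ hker ht
  exact h.card_classes hG

end Cfsg.Agent.H244.Kondo
end
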